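import Cfsg.Agent.Lib.OddOrder.CNGroup
import Cfsg.Agent.Lib.Involution.StrongEmb
import Cfsg.Agent.Lib.ZStar.Main
import Cfsg.Agent.Lib.ZStar.Consumers
import Cfsg.Agent.Lib.PCore.Basic
import Cfsg.Agent.S0205
import Cfsg.Prelude.Def_LieExceptional

/-!
# CN-groups with a strongly embedded subgroup whose involutions share one centraliser

If there is no nontrivial abelian normal subgroup, the action on the cosets is a Zassenhaus group
of odd degree.
-/

set_option autoImplicit false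
set_option linter.style.haveILetI false

namespace Cfsg.Agent.TICentralisers

open Subgroup MulAction
open Cfsg (IsStronglyEmbedded)
open Cfsg.Agent.Involution

variable {G : Type*} [Group G]

/-- An involution acting without fixed points on a finite subgroup inverts it. -/
theorem inverts_of_fpf [Finite G] {u : G} (hu : u * u = 1) (T : Subgroup G)
    (hT : ∀ x ∈ T, u * x * u ∈ T) (hfix : ∀ x ∈ T, Commute x u → x = 1) :
    ∀ x ∈ T, u * x * u = x⁻¹ := by
  intro x hx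
  have hui : u⁻¹ = u := inv_eq_of_mul_eq_one_right hu
  have hinj : Function.Injective
      (fun y : T => (⟨(y : G)⁻¹ * (u * y * u), mul_mem (inv_mem y.2) (hT y y.2)⟩ : T)) := by
    intro a b hab
    have h : (a : G)⁻¹ * (u * a * u) = (b : G)⁻¹ * (u * b * u) := congrArg Subtype.val hab
    have e1 : u * a * u = (a : G) * ((b : G)⁻¹ * (u * b * u)) := by rw [← h]; group
    have h1 : u * ((b : G) * (a : G)⁻¹) * u = (b : G) * (a : G)⁻¹ := by
      calc u * ((b : G) * (a : G)⁻¹) * u = (u * b * u) * (u * a * u)⁻¹ := by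
            rw [mul_inv_rev, mul_inv_rev, hui]
            simp only [mul_assoc, ← mul_assoc u u, hu, one_mul]
        _ = (b : G) * (a : G)⁻¹ := by rw [e1]; group
    have h2 : Commute ((b : G) * (a : G)⁻¹) u := by
      show (b : G) * (a : G)⁻¹ * u = u * ((b : G) * (a : G)⁻¹)
      nth_rewrite 1 [← h1]
      rw [mul_assoc, hu, mul_one]
    exact Subtype.ext (mul_inv_eq_one.1 (hfix _ (mul_mem b.2 (inv_mem a.2)) h2)).symm
  obtain ⟨y, hy⟩ := Finite.surjective_of_injective hinj ⟨x, hx⟩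
  have h : (y : G)⁻¹ * (u * y * u) = x := congrArg Subtype.val hy
  rw [← h]
  calc u * ((y : G)⁻¹ * (u * y * u)) * u = u * (y : G)⁻¹ * u * y * (u * u) := by group
    _ = ((y : G)⁻¹ * (u * y * u))⁻¹ := by
      rw [hu, mul_one, mul_inv_rev, mul_inv_rev, mul_inv_rev, hui, inv_inv]; group

/-- A nilpotent subgroup with an involution has a central involution. -/
theorem exists_central_involution [Finite G] {K : Subgroup G} [Group.IsNilpotent K] {s : G}
    (hs : s ∈ K) (hs2 : orderOf s = 2) :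
    ∃ z ∈ K, orderOf z = 2 ∧ ∀ k ∈ K, Commute k z := by
  haveI : Fact (Nat.Prime 2) := ⟨Nat.prime_two⟩
  obtain ⟨T⟩ := (inferInstance : Nonempty (Sylow 2 K))
  have hd : 2 ∣ Nat.card K := by
    rw [← hs2, ← Subgroup.orderOf_mk s hs]
    exact _root_.orderOf_dvd_natCard _
  obtain ⟨⟨w, hwT, hwc⟩, hw1⟩ := Subgroup.ne_bot_iff_exists_ne_one.1
    (Solvable.inf_center_ne_bot (N := (T : Subgroup K)) (T.ne_bot_of_dvd_card hd))
  obtain ⟨k, hk⟩ := IsPGroup.iff_orderOf.1 T.2 ⟨w, hwT⟩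
  rw [Subgroup.orderOf_mk] at hk
  rcases k with _ | k
  · exact absurd (orderOf_eq_one_iff.1 (hk.trans (pow_zero 2))) fun h => hw1 (Subtype.ext h)
  refine ⟨((w ^ 2 ^ k : K) : G), SetLike.coe_mem _, ?_, fun a ha => ?_⟩
  · rw [Subgroup.orderOf_coe, orderOf_pow_of_dvd (pow_ne_zero _ two_ne_zero)
      (hk ▸ pow_dvd_pow 2 (Nat.le_succ k)), hk, pow_succ, Nat.mul_div_cancel_left _ (by positivity)]
  · exact congrArg Subtype.val (Subgroup.mem_center_iff.1 (pow_mem hwc (2 ^ k)) ⟨a, ha⟩)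

/-- The configuration: the involutions of the strongly embedded `M` have centraliser `C`. -/
structure Cfg (M C : Subgroup G) : Prop where
  hCN : ∀ c : G, c ≠ 1 → (∃ s : G, orderOf s = 2 ∧ Commute s c) →
    Group.IsNilpotent (centralizer ({c} : Set G))
  hse : IsStronglyEmbedded M
  hC : ∀ t, t ∈ M → orderOf t = 2 → centralizer ({t} : Set G) = C
  hNA : ∀ A : Subgroup G, A.Normal → IsMulCommutative A → A = ⊥

/-- The stabiliser of the cosets `M` and `g M`. -/
def dSub (M : Subgroup G) (g : G) : Subgroup G := M ⊓ M.map (MulAut.conj g).toMonoidHom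

theorem mem_dSub {M : Subgroup G} {g d : G} : d ∈ dSub M g ↔ d ∈ M ∧ g⁻¹ * d * g ∈ M := by
  constructor
  · rintro ⟨h1, y, hy, rfl⟩
    refine ⟨h1, ?_⟩
    show g⁻¹ * (g * y * g⁻¹) * g ∈ M
    rwa [show g⁻¹ * (g * y * g⁻¹) * g = y by group]
  · rintro ⟨h1, h2⟩
    exact ⟨h1, _, h2, show g * (g⁻¹ * d * g) * g⁻¹ = d by group⟩

theorem smul_base_iff {M : Subgroup G} {m : G} :
    m • ((1 : G) : G ⧸ M) = ((1 : G) : G ⧸ M) ↔ m ∈ M := by
  rw [StrongEmb.smul_one_eq_iff, inv_one, one_mul]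

theorem smul_coe_eq_iff {M : Subgroup G} {m g : G} :
    m • (g : G ⧸ M) = (g : G ⧸ M) ↔ g⁻¹ * m * g ∈ M := by
  rw [MulAction.Quotient.smul_coe, smul_eq_mul, eq_comm, QuotientGroup.eq, mul_assoc]

theorem coe_ne_base {M : Subgroup G} {g : G} (hg : g ∉ M) :
    (g : G ⧸ M) ≠ ((1 : G) : G ⧸ M) := by
  rw [Ne, QuotientGroup.eq, mul_one]
  exact fun h => hg (inv_inv g ▸ M.inv_mem h)

theorem out_not_mem {M : Subgroup G} {x : G ⧸ M} (hx : x ≠ ((1 : G) : G ⧸ M)) : x.out ∉ M := by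
  intro h
  refine hx ?_
  conv_lhs => rw [← QuotientGroup.out_eq' x]
  rw [QuotientGroup.eq, mul_one]
  exact M.inv_mem h

namespace Cfg

variable [Finite G] {M C : Subgroup G} (h : Cfg M C)
include h

theorem exists_inv : ∃ t ∈ M, orderOf t = 2 := StrongEmb.exists_involution h.hse

theorem C_le : C ≤ M := by
  obtain ⟨t, ht, ht2⟩ := h.exists_inv
  intro x hx
  rw [← h.hC t ht ht2, mem_centralizer_singleton_iff] at hx
  exact StrongEmb.mem_of_commute h.hse ht ht2 hx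

theorem commute_of_mem {t x : G} (ht : t ∈ M) (ht2 : orderOf t = 2) (hx : x ∈ C) : Commute x t := by
  rw [← h.hC t ht ht2, mem_centralizer_singleton_iff] at hx
  exact hx

theorem mem_of_commute {t x : G} (ht : t ∈ M) (ht2 : orderOf t = 2) (hx : Commute x t) : x ∈ C := by
  rw [← h.hC t ht ht2]
  exact mem_centralizer_singleton_iff.2 hx.eq

theorem inv_mem_C {t : G} (ht : t ∈ M) (ht2 : orderOf t = 2) : t ∈ C :=
  h.mem_of_commute ht ht2 (Commute.refl t)

theorem conj_mem_C {m c : G} (hm : m ∈ M) (hc : c ∈ C) : m * c * m⁻¹ ∈ C := by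
  obtain ⟨t, ht, ht2⟩ := h.exists_inv
  have hc' := h.commute_of_mem (M.mul_mem (M.mul_mem (M.inv_mem hm) ht) hm) (x := c)
    (by simpa using (StrongEmb.orderOf_conj' m⁻¹ t).trans ht2) hc
  refine h.mem_of_commute ht ht2 ?_
  show m * c * m⁻¹ * t = t * (m * c * m⁻¹)
  calc m * c * m⁻¹ * t = m * (c * (m⁻¹ * t * m)) * m⁻¹ := by group
    _ = m * ((m⁻¹ * t * m) * c) * m⁻¹ := by rw [hc'.eq]
    _ = t * (m * c * m⁻¹) := by group

/-- Elements of odd order and involutions centralising a common nontrivial element commute. -/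
theorem commute_odd {x a s : G} (hx : x ≠ 1) (ha : Odd (orderOf a)) (hs : orderOf s = 2)
    (hax : Commute a x) (hsx : Commute s x) : Commute a s := by
  haveI : Fact (Nat.Prime 2) := ⟨Nat.prime_two⟩
  exact OddOrder.CN.commute_of_nilpotent (h.hCN x hx ⟨s, hs, hsx⟩)
    (mem_centralizer_singleton_iff.2 hsx.eq) (mem_centralizer_singleton_iff.2 hax.eq)
    ⟨1, by rw [pow_one, ← hs, pow_orderOf_eq_one]⟩ (Nat.coprime_two_right.2 ha)

/-- Involutions centralising a common nontrivial element are on the same side of `M`. -/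
theorem mem_of_common {c s s' : G} (hc : c ≠ 1) (hsM : s ∈ M) (hs : orderOf s = 2)
    (hs' : orderOf s' = 2) (hsc : Commute s c) (hs'c : Commute s' c) : s' ∈ M := by
  haveI := h.hCN c hc ⟨s, hs, hsc⟩
  obtain ⟨z, -, hz2, hzc⟩ := exists_central_involution (K := centralizer ({c} : Set G))
    (mem_centralizer_singleton_iff.2 hsc.eq) hs
  have hz : z ∈ M := StrongEmb.mem_of_commute h.hse hsM hs
    (hzc s (mem_centralizer_singleton_iff.2 hsc.eq)).symm
  exact StrongEmb.mem_of_commute h.hse hz hz2 (hzc s' (mem_centralizer_singleton_iff.2 hs'c.eq))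

theorem odd_card {g : G} (hg : g ∉ M) : Odd (Nat.card (dSub M g)) := h.hse.2.2 g hg

theorem odd_orderOf {g d : G} (hg : g ∉ M) (hd : d ∈ dSub M g) : Odd (orderOf d) :=
  (h.odd_card hg).of_dvd_nat ((dSub M g).orderOf_dvd_natCard hd)

theorem exists_swap {g : G} (hg : g ∉ M) : ∃ u : G, orderOf u = 2 ∧ g⁻¹ * u ∈ M := by
  obtain ⟨t, ht, ht2⟩ := h.exists_inv
  haveI : Nonempty {t : G // orderOf t = 2 ∧ t ∈ M} := ⟨⟨t, ht2, ht⟩⟩
  have hpos : 0 < Nat.card {i : G // orderOf i = 2 ∧ i • ((1 : G) : G ⧸ M) = (g : G ⧸ M)} := by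
    rw [StrongEmb.card_swap_base h.hse g hg]
    exact Nat.card_pos
  obtain ⟨⟨u, hu2, hu⟩⟩ := (Nat.card_pos_iff.1 hpos).1
  exact ⟨u, hu2, StrongEmb.smul_one_eq_iff.1 hu⟩

theorem swap_conj_mem {g u d : G} (hu : orderOf u = 2) (hgu : g⁻¹ * u ∈ M)
    (hd : d ∈ dSub M g) : u * d * u ∈ dSub M g := by
  have hug : u * g ∈ M := by
    have := M.inv_mem hgu
    rwa [mul_inv_rev, inv_inv, StrongEmb.inv_eq_of_orderOf hu] at this
  rw [mem_dSub] at hd ⊢
  constructor
  · rw [show u * d * u = u * g * (g⁻¹ * d * g) * (g⁻¹ * u) by group]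
    exact M.mul_mem (M.mul_mem hug hd.2) hgu
  · rw [show g⁻¹ * (u * d * u) * g = g⁻¹ * u * d * (u * g) by group]
    exact M.mul_mem (M.mul_mem hgu hd.1) hug

theorem eq_one_of_mem {g a : G} (hg : g ∉ M) (haC : a ∈ C) (haD : a ∈ dSub M g) : a = 1 := by
  obtain ⟨t, ht, ht2⟩ := h.exists_inv
  obtain ⟨u, hu2, hgu⟩ := h.exists_swap hg
  have huu := StrongEmb.mul_self_of_orderOf hu2
  have hui := StrongEmb.inv_eq_of_orderOf hu2
  have huM : u ∉ M := fun hm => hg (by
    have := M.mul_mem hm (M.inv_mem hgu)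
    rwa [mul_inv_rev, inv_inv, ← mul_assoc, mul_inv_cancel, one_mul] at this)
  set b := u * a * u with hb
  have hbD : b ∈ dSub M g := h.swap_conj_mem hu2 hgu haD
  have hat := h.commute_of_mem ht ht2 haC
  set s := u * t * u with hs
  have hs2 : orderOf s = 2 := by
    rw [hs]; nth_rewrite 2 [← hui]; rw [StrongEmb.orderOf_conj', ht2]
  have hsM : s ∉ M := fun hm => huM (StrongEmb.mem_of_conj_mem h.hse ht ht2 (by rwa [hui]))
  have hua : u * b * u = a := by
    calc u * (u * a * u) * u = (u * u) * a * (u * u) := by group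
      _ = a := by rw [huu, one_mul, mul_one]
  -- conjugation by `u` carries commuting with `t` to commuting with `s`
  have hconj : ∀ x : G, Commute x t → Commute (u * x * u) s := fun x hx => by
    show u * x * u * (u * t * u) = u * t * u * (u * x * u)
    calc u * x * u * (u * t * u) = u * x * (u * u) * t * u := by group
      _ = u * (x * t) * u := by rw [huu]; group
      _ = u * (t * x) * u := by rw [hx.eq]
      _ = u * t * (u * u) * x * u := by rw [huu]; group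
      _ = u * t * u * (u * x * u) := by group
  have hc : a * b * a⁻¹ * b⁻¹ ∈ C := by
    rw [show a * b * a⁻¹ * b⁻¹ = a * (b * a⁻¹ * b⁻¹) by group]
    exact C.mul_mem haC (h.conj_mem_C (mem_dSub.1 hbD).1 (C.inv_mem haC))
  have hcs : Commute (a * b * a⁻¹ * b⁻¹) s := by
    have h1 := hconj _ (h.commute_of_mem ht ht2 hc)
    have h2 : u * (a * b * a⁻¹ * b⁻¹) * u = (a * b * a⁻¹ * b⁻¹)⁻¹ := by
      calc u * (a * b * a⁻¹ * b⁻¹) * u
          = u * (a * b * a⁻¹ * b⁻¹) * u⁻¹ := by rw [hui]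
        _ = u * a * u⁻¹ * (u * b * u⁻¹) * (u * a * u⁻¹)⁻¹ * (u * b * u⁻¹)⁻¹ := by group
        _ = (a * b * a⁻¹ * b⁻¹)⁻¹ := by rw [hui, hua, ← hb]; group
    rw [h2] at h1
    exact (Commute.inv_left_iff).1 h1
  have hab : Commute a b := by
    by_contra hne
    refine hsM (h.mem_of_common (c := a * b * a⁻¹ * b⁻¹) (fun hc1 => hne ?_) ht ht2 hs2
      (h.commute_of_mem ht ht2 hc).symm hcs.symm)
    rw [mul_inv_eq_one, mul_inv_eq_iff_eq_mul] at hc1
    exact hc1
  by_contra ha1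
  have hb1 : b ≠ 1 := fun e => ha1 (by rw [← hua, e, mul_one, huu])
  exact hsM (h.mem_of_common ha1 ht ht2 hs2 hat.symm
    (h.commute_odd hb1 (h.odd_orderOf hg haD) hs2 hab (hconj a hat).symm).symm)

theorem exists_mul {g m : G} (hg : g ∉ M) (hm : m ∈ M) : ∃ d ∈ dSub M g, d⁻¹ * m ∈ C := by
  obtain ⟨t, ht, ht2⟩ := h.exists_inv
  obtain ⟨d, hd, hdt⟩ := StrongEmb.exists_mem_inter_conj h.hse hg ht2 ht
    (t := m * t * m⁻¹) (by rw [StrongEmb.orderOf_conj', ht2])
    (M.mul_mem (M.mul_mem hm ht) (M.inv_mem hm))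
  refine ⟨d, hd, h.mem_of_commute ht ht2 ?_⟩
  show d⁻¹ * m * t = t * (d⁻¹ * m)
  calc d⁻¹ * m * t = d⁻¹ * (m * t * m⁻¹) * m := by group
    _ = t * (d⁻¹ * m) := by rw [← hdt]; group

theorem card_dSub {g : G} (hg : g ∉ M) :
    Nat.card (dSub M g) = Nat.card {t : G // orderOf t = 2 ∧ t ∈ M} := by
  obtain ⟨t, ht, ht2⟩ := h.exists_inv
  refine Nat.card_eq_of_bijective (fun d : dSub M g => (⟨d * t * (d : G)⁻¹,
    by rw [StrongEmb.orderOf_conj', ht2],
    M.mul_mem (M.mul_mem (mem_dSub.1 d.2).1 ht) (M.inv_mem (mem_dSub.1 d.2).1)⟩ :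
      {t : G // orderOf t = 2 ∧ t ∈ M})) ⟨fun d d' hdd => ?_, fun s => ?_⟩
  · have he : (d : G) * t * (d : G)⁻¹ = d' * t * (d' : G)⁻¹ := congrArg Subtype.val hdd
    have h1 : (d' : G)⁻¹ * d = 1 := by
      refine h.eq_one_of_mem hg (h.mem_of_commute ht ht2 ?_) (mul_mem (inv_mem d'.2) d.2)
      show (d' : G)⁻¹ * d * t = t * ((d' : G)⁻¹ * d)
      calc (d' : G)⁻¹ * d * t = (d' : G)⁻¹ * ((d : G) * t * (d : G)⁻¹) * d := by group
        _ = t * ((d' : G)⁻¹ * d) := by rw [he]; group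
    exact Subtype.ext (inv_mul_eq_one.1 h1).symm
  · obtain ⟨d, hd, hdt⟩ := StrongEmb.exists_mem_inter_conj h.hse hg ht2 ht s.2.1 s.2.2
    exact ⟨⟨d, hd⟩, Subtype.ext hdt⟩

theorem swap_inverts {g u d : G} (hg : g ∉ M) (hu : orderOf u = 2) (hgu : g⁻¹ * u ∈ M)
    (hd : d ∈ dSub M g) : u * d * u = d⁻¹ := by
  have huu := StrongEmb.mul_self_of_orderOf hu
  have hui := StrongEmb.inv_eq_of_orderOf hu
  let f : {i : G // orderOf i = 2 ∧ i • ((1 : G) : G ⧸ M) = (g : G ⧸ M)} → dSub M g := fun i =>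
    ⟨u * i, by
      have hgi : g⁻¹ * (i : G) ∈ M := StrongEmb.smul_one_eq_iff.1 i.2.2
      have hii : (i : G)⁻¹ = i := StrongEmb.inv_eq_of_orderOf i.2.1
      rw [mem_dSub]
      constructor
      · rw [show u * (i : G) = (g⁻¹ * u)⁻¹ * (g⁻¹ * i) by rw [mul_inv_rev, inv_inv, hui]; group]
        exact M.mul_mem (M.inv_mem hgu) hgi
      · rw [show g⁻¹ * (u * i) * g = g⁻¹ * u * (g⁻¹ * i)⁻¹ by
          rw [mul_inv_rev, hii, inv_inv]; group]
        exact M.mul_mem hgu (M.inv_mem hgi)⟩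
  have hf : Function.Bijective f := by
    rw [Nat.bijective_iff_injective_and_card]
    refine ⟨fun i j hij => Subtype.ext (mul_left_cancel (a := u) (congrArg Subtype.val hij :)), ?_⟩
    rw [h.card_dSub hg, StrongEmb.card_swap_base h.hse g hg]
  obtain ⟨i, hi⟩ := hf.2 ⟨d, hd⟩
  have h1 : u * (i : G) = d := congrArg Subtype.val hi
  rw [← h1, mul_inv_rev, hui, StrongEmb.inv_eq_of_orderOf i.2.1, ← mul_assoc, huu, one_mul]

theorem dSub_comm {g a b : G} (hg : g ∉ M) (ha : a ∈ dSub M g) (hb : b ∈ dSub M g) :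
    Commute a b := by
  obtain ⟨u, hu, hgu⟩ := h.exists_swap hg
  have huu := StrongEmb.mul_self_of_orderOf hu
  have h1 := h.swap_inverts hg hu hgu (mul_mem ha hb)
  have h2 : u * (a * b) * u = a⁻¹ * b⁻¹ := by
    calc u * (a * b) * u = u * a * (u * u) * b * u := by rw [huu]; group
      _ = u * a * u * (u * b * u) := by group
      _ = a⁻¹ * b⁻¹ := by rw [h.swap_inverts hg hu hgu ha, h.swap_inverts hg hu hgu hb]
  rw [h2] at h1
  have h3 := congrArg (fun x : G => x⁻¹) h1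
  simp only [mul_inv_rev, inv_inv] at h3
  exact h3.symm

theorem exists_ne_one {g : G} (hg : g ∉ M) : ∃ k ∈ dSub M g, k ≠ 1 := by
  by_contra hall
  push Not at hall
  obtain ⟨t, ht, ht2⟩ := h.exists_inv
  have hiso : Cfsg.IsIsolatedInvolution t := by
    refine ⟨ht2, fun x hx => ?_⟩
    have hxM : x * t * x⁻¹ ∈ M := StrongEmb.mem_of_commute h.hse ht ht2 hx.symm
    obtain ⟨d, hd, hdt⟩ := StrongEmb.exists_mem_inter_conj h.hse hg ht2 ht
      (by rw [StrongEmb.orderOf_conj', ht2]) hxM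
    rw [← hdt, hall d hd, one_mul, inv_one, mul_one]
  have hO : Cfsg.oddCore G = ⊥ := by
    by_contra hne
    haveI : (Cfsg.oddCore G).Normal := by unfold Cfsg.oddCore; infer_instance
    obtain ⟨A, -, hAn, -, hA1, -, hAc, -, -⟩ := Solvable.exists_abelian_minimal_normal
      (S0205.result PCore.odd_card_oddCore) hne
    exact hA1 (h.hNA A hAn hAc)
  have hz := ZStar.mem_center_of_oddCore_eq_bot (ZStar.inZStar hiso) hO
  have hzn : (zpowers t).Normal := ⟨fun n hn x => by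
    obtain ⟨k, rfl⟩ := mem_zpowers_iff.1 hn
    rw [Subgroup.mem_center_iff.1 (zpow_mem hz k) x, mul_inv_cancel_right]
    exact zpow_mem_zpowers t k⟩
  have h1 := h.hNA _ hzn inferInstance
  rw [zpowers_eq_bot] at h1
  rw [h1, orderOf_one] at ht2
  exact absurd ht2 (by omega)

theorem eq_one_of_commute {g k c : G} (hg : g ∉ M) (hk : k ∈ dSub M g) (hk1 : k ≠ 1)
    (hc : c ∈ C) (hkc : Commute k c) : c = 1 := by
  obtain ⟨t, ht, ht2⟩ := h.exists_inv
  by_contra hc1
  refine hk1 (h.eq_one_of_mem hg (h.mem_of_commute ht ht2 ?_) hk)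
  exact h.commute_odd hc1 (h.odd_orderOf hg hk) ht2 hkc (h.commute_of_mem ht ht2 hc).symm

theorem mem_dSub_of_commute {g k m : G} (hg : g ∉ M) (hk : k ∈ dSub M g) (hk1 : k ≠ 1)
    (hm : m ∈ M) (hkm : Commute k m) : m ∈ dSub M g := by
  obtain ⟨d, hd, hc⟩ := h.exists_mul hg hm
  have h1 := h.eq_one_of_commute hg hk hk1 hc ((h.dSub_comm hg hk hd).inv_right.mul_right hkm)
  rw [inv_mul_eq_one] at h1
  exact h1 ▸ hd

theorem exists_conj {g x : G} (hg : g ∉ M) (hx : x ∈ M) (hxC : x ∉ C) :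
    ∃ c ∈ C, c⁻¹ * x * c ∈ dSub M g := by
  obtain ⟨d, hd, hdx⟩ := h.exists_mul hg hx
  have hd1 : d ≠ 1 := fun e => hxC (by rwa [e, inv_one, one_mul] at hdx)
  have hdM := (mem_dSub.1 hd).1
  let f : C → C := fun c => ⟨d⁻¹ * ((c : G) * d * (c : G)⁻¹), by
    rw [show d⁻¹ * ((c : G) * d * (c : G)⁻¹) = d⁻¹ * c * d⁻¹⁻¹ * (c : G)⁻¹ by group]
    exact C.mul_mem (h.conj_mem_C (M.inv_mem hdM) c.2) (C.inv_mem c.2)⟩
  have hf : Function.Injective f := fun a b hab => by
    have h0 : (a : G) * d * (a : G)⁻¹ = (b : G) * d * (b : G)⁻¹ :=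
      mul_left_cancel (congrArg Subtype.val hab :)
    have h1 : Commute d ((b : G)⁻¹ * a) := by
      show d * ((b : G)⁻¹ * a) = (b : G)⁻¹ * a * d
      calc d * ((b : G)⁻¹ * a) = (b : G)⁻¹ * ((b : G) * d * (b : G)⁻¹) * a := by group
        _ = (b : G)⁻¹ * a * d := by rw [← h0]; group
    exact Subtype.ext (inv_mul_eq_one.1
      (h.eq_one_of_commute hg hd hd1 (C.mul_mem (C.inv_mem b.2) a.2) h1)).symm
  obtain ⟨c, hc⟩ := Finite.surjective_of_injective hf ⟨_, hdx⟩
  have h2 : (c : G) * d * (c : G)⁻¹ = x := mul_left_cancel (congrArg Subtype.val hc :)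
  refine ⟨c, c.2, ?_⟩
  rw [← h2, show (c : G)⁻¹ * ((c : G) * d * (c : G)⁻¹) * c = d by group]
  exact hd

end Cfg

end Cfsg.Agent.TICentralisers
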