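import Cfsg.Agent.Lib.TICentralisers.Rigid
import Mathlib.GroupTheory.GroupAction.MultipleTransitivity

/-!
# The coset action is a Zassenhaus group
-/

set_option autoImplicit false
set_option linter.style.haveILetI false

namespace Cfsg.Agent.TICentralisers

open Subgroup MulAction
open Cfsg.Agent.Involution

variable {G : Type*} [Group G] [Finite G] {M C : Subgroup G}

namespace Cfg

variable (h : Cfg M C)
include h

/-- An involution exchanging two cosets fixed by `k` inverts `k`. -/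
theorem inverts_of_move {i k : G} (hi : orderOf i = 2) {x : G ⧸ M} (hkx : k • x = x)
    (hky : k • (i • x) = i • x) (hne : i • x ≠ x) : i * k * i = k⁻¹ := by
  induction x using QuotientGroup.induction_on with
  | _ a =>
    have hg : (a⁻¹ * (i * a)) ∉ M := fun hm => hne (by
      rw [MulAction.Quotient.smul_coe, smul_eq_mul, eq_comm, QuotientGroup.eq]; exact hm)
    have hi' : orderOf (a⁻¹ * i * a) = 2 := by
      simpa using (StrongEmb.orderOf_conj' a⁻¹ i).trans hi
    have hgu : (a⁻¹ * (i * a))⁻¹ * (a⁻¹ * i * a) ∈ M := by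
      rw [mul_assoc a⁻¹ i a, inv_mul_cancel]; exact M.one_mem
    rw [smul_coe_eq_iff] at hkx
    have hky' : (i * a)⁻¹ * k * (i * a) ∈ M := by
      rwa [MulAction.Quotient.smul_coe, smul_eq_mul, smul_coe_eq_iff] at hky
    have hk : a⁻¹ * k * a ∈ dSub M (a⁻¹ * (i * a)) := by
      refine mem_dSub.2 ⟨hkx, ?_⟩
      rwa [show (a⁻¹ * (i * a))⁻¹ * (a⁻¹ * k * a) * (a⁻¹ * (i * a)) = (i * a)⁻¹ * k * (i * a) by group]
    have h1 := h.swap_inverts hg hi' hgu hk
    rw [show a⁻¹ * i * a * (a⁻¹ * k * a) * (a⁻¹ * i * a) = a⁻¹ * (i * k * i) * a by group,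
      show (a⁻¹ * k * a)⁻¹ = a⁻¹ * k⁻¹ * a by group] at h1
    exact mul_left_cancel (mul_right_cancel h1)

/-- An involution inverting `k` fixes no coset fixed by `k`, if `k` fixes two. -/
theorem ne_of_inverts {i k : G} (hi : orderOf i = 2) (hik : i * k * i = k⁻¹) (hk1 : k ≠ 1)
    {x y : G ⧸ M} (hxy : y ≠ x) (hkx : k • x = x) (hky : k • y = y) : i • x ≠ x := by
  intro hix
  induction x using QuotientGroup.induction_on with
  | _ a =>
    induction y using QuotientGroup.induction_on with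
    | _ b =>
      rw [smul_coe_eq_iff] at hkx hky hix
      have hg : a⁻¹ * b ∉ M := fun hm => hxy (QuotientGroup.eq.2
        (by have := M.inv_mem hm; rwa [mul_inv_rev, inv_inv] at this))
      have hk' : a⁻¹ * k * a ∈ dSub M (a⁻¹ * b) := by
        refine mem_dSub.2 ⟨hkx, ?_⟩
        rwa [show (a⁻¹ * b)⁻¹ * (a⁻¹ * k * a) * (a⁻¹ * b) = b⁻¹ * k * b by group]
      have hi' : orderOf (a⁻¹ * i * a) = 2 := by
        simpa using (StrongEmb.orderOf_conj' a⁻¹ i).trans hi
      have hiC := h.inv_mem_C hix hi'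
      set k' := a⁻¹ * k * a with hk'def
      set i' := a⁻¹ * i * a with hi'def
      have hinv : i' * k' * i' = k'⁻¹ := by
        calc i' * k' * i' = a⁻¹ * (i * k * i) * a := by rw [hk'def, hi'def]; group
          _ = k'⁻¹ := by rw [hik, hk'def]; group
      have h2 : (k' * k')⁻¹ ∈ C := by
        rw [show (k' * k')⁻¹ = i' * (k' * i' * k'⁻¹) by
          rw [mul_inv_rev]; nth_rewrite 1 [← hinv]; group]
        exact C.mul_mem hiC (h.conj_mem_C hkx hiC)
      have h3 : (k' * k')⁻¹ = 1 :=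
        h.eq_one_of_mem hg h2 (inv_mem (mul_mem hk' hk'))
      rw [inv_eq_one] at h3
      have h4 : orderOf k' ∣ 2 := orderOf_dvd_of_pow_eq_one (by rwa [pow_two])
      rcases (Nat.dvd_prime Nat.prime_two).1 h4 with h5 | h5
      · rw [orderOf_eq_one_iff, hk'def] at h5
        refine hk1 ?_
        calc k = a * (a⁻¹ * k * a) * a⁻¹ := by group
          _ = 1 := by rw [h5]; group
      · exact Nat.not_even_iff_odd.2 (h.odd_orderOf hg hk') ⟨1, h5⟩

/-- A nontrivial element of a two-point stabiliser fixes exactly two points. -/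
theorem fix_two {g k : G} (hg : g ∉ M) (hk : k ∈ dSub M g) (hk1 : k ≠ 1) {x : G ⧸ M}
    (hkx : k • x = x) : x = ((1 : G) : G ⧸ M) ∨ x = (g : G ⧸ M) := by
  classical
  haveI := Fintype.ofFinite G
  set a : G ⧸ M := ((1 : G) : G ⧸ M) with ha
  set e := Nat.card {t : G // orderOf t = 2 ∧ t ∈ M} with he
  have hga : (g : G ⧸ M) ≠ a := coe_ne_base hg
  have hka : k • a = a := smul_base_iff.2 (mem_dSub.1 hk).1
  have hkg : k • (g : G ⧸ M) = g := smul_coe_eq_iff.2 (mem_dSub.1 hk).2
  -- `F` = fixed points of `k` other than the base, `I` = involutions inverting `k`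
  let F := {y : G ⧸ M // k • y = y ∧ y ≠ a}
  haveI : Fintype F := Fintype.ofFinite F
  let I := {i : G // orderOf i = 2 ∧ i * k * i = k⁻¹}
  have hmove : ∀ i : I, ∀ y : G ⧸ M, k • y = y → k • ((i : G) • y) = (i : G) • y := fun i y hy => by
    have hii := StrongEmb.mul_self_of_orderOf i.2.1
    have h1 : k * (i : G) = i * k⁻¹ := by
      calc k * (i : G) = i * ((i : G) * k * i) := by
            rw [← mul_assoc, ← mul_assoc, hii, one_mul]
        _ = i * k⁻¹ := by rw [i.2.2]
    rw [← mul_smul, h1, mul_smul, inv_smul_eq_iff.2 hy.symm]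
  have hI : Nat.card I = Nat.card F * e := by
    let E : I ≃ Σ y : F, {i : G // orderOf i = 2 ∧ i • a = y.1} :=
      { toFun := fun i => ⟨⟨(i : G) • a, hmove i a hka,
          h.ne_of_inverts i.2.1 i.2.2 hk1 hga hka hkg⟩, i, i.2.1, rfl⟩
        invFun := fun p => ⟨p.2.1, p.2.2.1,
          h.inverts_of_move p.2.2.1 hka (by rw [p.2.2.2]; exact p.1.2.1)
            (by rw [p.2.2.2]; exact p.1.2.2)⟩
        left_inv := fun _ => rfl
        right_inv := fun ⟨⟨y, hy⟩, i, hi, (hiy : i • a = y)⟩ => by subst hiy; rfl }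
    rw [Nat.card_congr E, Nat.card_sigma, Finset.sum_congr rfl (fun y _ =>
      (StrongEmb.card_swap h.hse a y.1 (Ne.symm y.2.2)).trans he.symm), Finset.sum_const,
      Finset.card_univ, smul_eq_mul, Nat.card_eq_fintype_card]
  -- the centraliser of `k`
  set T := centralizer ({k} : Set G)
  obtain ⟨u, hu2, hgu⟩ := h.exists_swap hg
  have huk : u * k * u = k⁻¹ := h.swap_inverts hg hu2 hgu hk
  have huu := StrongEmb.mul_self_of_orderOf hu2
  have hukinv : u * k⁻¹ * u = k := by
    calc u * k⁻¹ * u = u * (u * k * u) * u := by rw [huk]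
      _ = (u * u) * k * (u * u) := by group
      _ = k := by rw [huu, one_mul, mul_one]
  have huk' : ∀ τ : G, Commute τ k → Commute (u * τ * u) k := fun τ hτ => by
    have h1 := hukinv
    show u * τ * u * k = k * (u * τ * u)
    calc u * τ * u * k = u * τ * u * (u * k⁻¹ * u) := by rw [h1]
      _ = u * τ * (u * u) * k⁻¹ * u := by group
      _ = u * (τ * k⁻¹) * u := by rw [huu]; group
      _ = u * (k⁻¹ * τ) * u := by rw [hτ.inv_right.eq]
      _ = u * k⁻¹ * (u * u) * τ * u := by rw [huu]; group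
      _ = u * k⁻¹ * u * (u * τ * u) := by group
      _ = k * (u * τ * u) := by rw [h1]
  have hinvT : ∀ τ ∈ T, u * τ * u = τ⁻¹ := by
    refine inverts_of_fpf huu T (fun τ hτ => mem_centralizer_singleton_iff.2
      (huk' τ (mem_centralizer_singleton_iff.1 hτ)).eq) fun τ hτ hτu => by_contra fun hτ1 => ?_
    have hc := h.commute_odd hτ1 (h.odd_orderOf hg hk) hu2
      (show Commute k τ from (mem_centralizer_singleton_iff.1 hτ).symm) hτu.symm
    refine hk1 ?_
    have h1 : k⁻¹ = k := by rw [← huk, ← hc.eq, mul_assoc, huu, mul_one]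
    have h2 : orderOf k ∣ 2 := orderOf_dvd_of_pow_eq_one
      (by rw [pow_two]; nth_rewrite 1 [← h1]; exact inv_mul_cancel k)
    rcases (Nat.dvd_prime Nat.prime_two).1 h2 with h5 | h5
    · exact orderOf_eq_one_iff.1 h5
    · exact absurd ⟨1, h5⟩ (Nat.not_even_iff_odd.2 (h.odd_orderOf hg hk))
  have hTI : Nat.card T = Nat.card I := by
    refine Nat.card_eq_of_bijective (fun τ : T => (⟨u * τ, ?_, ?_⟩ : I))
      ⟨fun a b hab => Subtype.ext (mul_left_cancel (congrArg Subtype.val hab :)), fun i => ?_⟩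
    · rw [orderOf_eq_prime_iff, pow_two, ← mul_assoc, hinvT τ τ.2, inv_mul_cancel]
      refine ⟨rfl, fun h1 => ?_⟩
      have h2 : (τ : G) = u := by
        rw [mul_eq_one_iff_inv_eq, StrongEmb.inv_eq_of_orderOf hu2] at h1
        exact h1.symm
      have h3 := mem_centralizer_singleton_iff.1 τ.2
      rw [h2] at h3
      have h4 : k⁻¹ = k := by rw [← huk, h3, mul_assoc, huu, mul_one]
      have h5 : orderOf k ∣ 2 := orderOf_dvd_of_pow_eq_one
        (by rw [pow_two]; nth_rewrite 1 [← h4]; exact inv_mul_cancel k)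
      rcases (Nat.dvd_prime Nat.prime_two).1 h5 with h5 | h5
      · exact hk1 (orderOf_eq_one_iff.1 h5)
      · exact Nat.not_even_iff_odd.2 (h.odd_orderOf hg hk) ⟨1, h5⟩
    · calc u * τ * k * (u * τ) = u * (τ * k) * u * τ := by group
        _ = u * (k * τ) * u * τ := by rw [mem_centralizer_singleton_iff.1 τ.2]
        _ = u * k * (u * u) * τ * u * τ := by rw [huu]; group
        _ = u * k * u * (u * τ * u) * τ := by group
        _ = k⁻¹ := by rw [huk, hinvT τ τ.2, inv_mul_cancel_right]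
    · refine ⟨⟨u * i, mem_centralizer_singleton_iff.2 ?_⟩, Subtype.ext ?_⟩
      · have hii := StrongEmb.mul_self_of_orderOf i.2.1
        have h1 : (i : G) * k = k⁻¹ * i := by
          calc (i : G) * k = (i : G) * k * i * i := by rw [mul_assoc _ (i : G), hii, mul_one]
            _ = k⁻¹ * i := by rw [i.2.2]
        calc u * i * k = u * (k⁻¹ * i) := by rw [mul_assoc, h1]
          _ = u * k⁻¹ * (u * u) * i := by rw [huu]; group
          _ = u * k⁻¹ * u * (u * i) := by group
          _ = k * (u * i) := by rw [hukinv]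
      · show u * (u * i) = (i : G)
        rw [← mul_assoc, huu, one_mul]
  -- stabilisers in `T` of fixed points of `k`
  have hstab : ∀ y : G ⧸ M, k • y = y → Nat.card (stabilizer T y) = e := by
    intro y hy
    obtain ⟨z, hz, hzy⟩ : ∃ z : G ⧸ M, k • z = z ∧ z ≠ y := by
      by_cases hya : y = a
      · exact ⟨g, hkg, hya ▸ hga⟩
      · exact ⟨a, hka, Ne.symm hya⟩
    induction y using QuotientGroup.induction_on with
    | _ b =>
      induction z using QuotientGroup.induction_on with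
      | _ d =>
        rw [smul_coe_eq_iff] at hy hz
        have hg' : b⁻¹ * d ∉ M := fun hm => hzy (QuotientGroup.eq.2
          (by have := M.inv_mem hm; rwa [mul_inv_rev, inv_inv] at this))
        have hk' : b⁻¹ * k * b ∈ dSub M (b⁻¹ * d) := by
          refine mem_dSub.2 ⟨hy, ?_⟩
          rwa [show (b⁻¹ * d)⁻¹ * (b⁻¹ * k * b) * (b⁻¹ * d) = d⁻¹ * k * d by group]
        have hk1' : b⁻¹ * k * b ≠ 1 := fun e1 => hk1 (by
          calc k = b * (b⁻¹ * k * b) * b⁻¹ := by group
            _ = 1 := by rw [e1]; group)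
        rw [he, ← h.card_dSub hg']
        refine Nat.card_eq_of_bijective (fun τ => (⟨b⁻¹ * ((τ : T) : G) * b, ?_⟩ : dSub M (b⁻¹ * d)))
          ⟨fun τ τ' hτ => Subtype.ext (Subtype.ext
            (mul_left_cancel (mul_right_cancel (congrArg Subtype.val hτ :)))), fun x => ?_⟩
        · have hτM : b⁻¹ * ((τ : T) : G) * b ∈ M := smul_coe_eq_iff.1 τ.2
          refine h.mem_dSub_of_commute hg' hk' hk1' hτM ?_
          show b⁻¹ * k * b * (b⁻¹ * ((τ : T) : G) * b) = b⁻¹ * ((τ : T) : G) * b * (b⁻¹ * k * b)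
          calc b⁻¹ * k * b * (b⁻¹ * ((τ : T) : G) * b) = b⁻¹ * (k * ((τ : T) : G)) * b := by group
            _ = b⁻¹ * (((τ : T) : G) * k) * b := by
              rw [mem_centralizer_singleton_iff.1 (τ : T).2]
            _ = _ := by group
        · have hc := h.dSub_comm hg' hk' x.2
          refine ⟨⟨⟨b * x * b⁻¹, mem_centralizer_singleton_iff.2 ?_⟩, ?_⟩, Subtype.ext ?_⟩
          · calc b * x * b⁻¹ * k = b * ((x : G) * (b⁻¹ * k * b)) * b⁻¹ := by group
              _ = b * (b⁻¹ * k * b * x) * b⁻¹ := by rw [hc.eq]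
              _ = k * (b * x * b⁻¹) := by group
          · show (b * (x : G) * b⁻¹) • (b : G ⧸ M) = b
            rw [smul_coe_eq_iff, show b⁻¹ * (b * (x : G) * b⁻¹) * b = x by group]
            exact (mem_dSub.1 x.2).1
          · show b⁻¹ * (b * (x : G) * b⁻¹) * b = x
            group
  have he0 : 0 < e := by rw [he, ← h.card_dSub hg]; exact Nat.card_pos
  have horb : ∀ y : G ⧸ M, k • y = y → Nat.card (orbit T y) = Nat.card F := by
    intro y hy
    have h1 : Nat.card (orbit T y) * Nat.card (stabilizer T y) = Nat.card T := by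
      rw [← Nat.card_prod]
      exact Nat.card_congr (orbitProdStabilizerEquivGroup T y)
    rw [hstab y hy, hTI, hI] at h1
    exact Nat.eq_of_mul_eq_mul_right he0 h1
  have hfixorb : ∀ y : G ⧸ M, k • y = y → ∀ z ∈ orbit T y, k • z = z := by
    rintro y hy _ ⟨τ, rfl⟩
    show k • ((τ : G) • y) = (τ : G) • y
    rw [← mul_smul, ← mem_centralizer_singleton_iff.1 τ.2, mul_smul, hy]
  let Y := {y : G ⧸ M // k • y = y}
  have hY : Nat.card Y = Nat.card F + 1 := by
    rw [← Finite.card_option]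
    refine Nat.card_congr ((Equiv.optionSubtypeNe (⟨a, hka⟩ : Y)).symm.trans (Equiv.optionCongr ?_))
    exact (Equiv.subtypeEquivRight fun y => by simp [Subtype.ext_iff]).trans
      (Equiv.subtypeSubtypeEquivSubtypeInter _ (fun y => y ≠ a))
  by_contra hxne
  push Not at hxne
  haveI : Nontrivial F := ⟨⟨x, hkx, hxne.1⟩, ⟨(g : G ⧸ M), hkg, hga⟩,
    fun e1 => hxne.2 (congrArg Subtype.val e1)⟩
  have hr := Finite.one_lt_card (α := F)
  -- some fixed point lies outside the orbit of the base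
  obtain ⟨z, hz, hzo⟩ : ∃ z, k • z = z ∧ z ∉ orbit T a := by
    by_contra hall
    push Not at hall
    have : Nat.card Y ≤ Nat.card (orbit T a) :=
      Nat.card_le_card_of_injective (fun y : Y => (⟨y.1, hall _ y.2⟩ : orbit T a))
        fun y y' hyy => Subtype.ext (congrArg Subtype.val hyy :)
    rw [horb a hka, hY] at this
    omega
  have hle : Nat.card (orbit T a ⊕ orbit T z) ≤ Nat.card Y := by
    refine Nat.card_le_card_of_injective (fun s : orbit T a ⊕ orbit T z => (Sum.elim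
      (fun y => ⟨y.1, hfixorb a hka _ y.2⟩) (fun y => ⟨y.1, hfixorb z hz _ y.2⟩) s : Y)) ?_
    rintro (⟨y, hy⟩ | ⟨y, hy⟩) (⟨y', hy'⟩ | ⟨y', hy'⟩) hyy <;>
      have hval : y = y' := congrArg Subtype.val hyy <;> subst hval
    · rfl
    · exact absurd ((orbit_eq_iff.2 hy).symm.trans (orbit_eq_iff.2 hy'))
        fun e1 => hzo (e1 ▸ mem_orbit_self z)
    · exact absurd ((orbit_eq_iff.2 hy').symm.trans (orbit_eq_iff.2 hy))
        fun e1 => hzo (e1 ▸ mem_orbit_self z)
    · rfl
  rw [Nat.card_sum, horb a hka, horb z hz, hY] at hle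
  omega

theorem regular_trans {g g' : G} (hg : g ∉ M) (hg' : g' ∉ M) :
    ∃ c ∈ C, c • (g : G ⧸ M) = (g' : G ⧸ M) := by
  obtain ⟨k, hk, hk1⟩ := h.exists_ne_one hg'
  obtain ⟨c, hc, hck⟩ := h.exists_conj hg (mem_dSub.1 hk).1
    (fun hkC => hk1 (h.eq_one_of_mem hg' hkC hk))
  refine ⟨c, hc, ?_⟩
  have h1 : c⁻¹ * k * c ≠ 1 := fun e => hk1 (by
    calc k = c * (c⁻¹ * k * c) * c⁻¹ := by group
      _ = 1 := by rw [e]; group)
  have h2 : (c⁻¹ * k * c) • (c⁻¹ • (g' : G ⧸ M)) = c⁻¹ • (g' : G ⧸ M) := by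
    rw [← mul_smul, mul_inv_cancel_right, mul_smul, smul_coe_eq_iff.2 (mem_dSub.1 hk).2]
  rcases h.fix_two hg hck h1 h2 with h3 | h3
  · exfalso
    rw [inv_smul_eq_iff, smul_base_iff.2 (h.C_le hc)] at h3
    exact coe_ne_base hg' h3
  · rw [inv_smul_eq_iff] at h3
    exact h3.symm

theorem semiregular {c : G} (hc : c ∈ C) {x : G ⧸ M} (hx : x ≠ ((1 : G) : G ⧸ M))
    (hcx : c • x = x) : c = 1 := by
  have hg := out_not_mem hx
  rw [← QuotientGroup.out_eq' x, smul_coe_eq_iff] at hcx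
  exact h.eq_one_of_mem hg hc (mem_dSub.2 ⟨h.C_le hc, hcx⟩)

theorem card_C : Nat.card C + 1 = Nat.card (G ⧸ M) := by
  classical
  set a : G ⧸ M := ((1 : G) : G ⧸ M)
  obtain ⟨g, -, hg⟩ := SetLike.exists_of_lt (lt_top_iff_ne_top.2 h.hse.1)
  have e : C ≃ {x : G ⧸ M // x ≠ a} := by
    refine Equiv.ofBijective (fun c => ⟨(c : G) • (g : G ⧸ M), fun e1 => coe_ne_base hg ?_⟩)
      ⟨fun c d hcd => ?_, fun x => ?_⟩
    · exact smul_left_cancel (c : G) (e1.trans (smul_base_iff.2 (h.C_le c.2)).symm)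
    · have h1 : (c : G) • (g : G ⧸ M) = (d : G) • (g : G ⧸ M) := congrArg Subtype.val hcd
      have h2 : ((d : G)⁻¹ * c) • (g : G ⧸ M) = g := by rw [mul_smul, h1, inv_smul_smul]
      exact Subtype.ext (inv_mul_eq_one.1
        (h.semiregular (C.mul_mem (C.inv_mem d.2) c.2) (coe_ne_base hg) h2)).symm
    · obtain ⟨c, hc, hcx⟩ := h.regular_trans hg (out_not_mem x.2)
      exact ⟨⟨c, hc⟩, Subtype.ext (hcx.trans (QuotientGroup.out_eq' x.1))⟩
  rw [Nat.card_congr e, ← Finite.card_option, Nat.card_congr (Equiv.optionSubtypeNe a)]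

theorem one_lt_card_C : 1 < Nat.card C := by
  obtain ⟨t, ht, ht2⟩ := h.exists_inv
  haveI : Nontrivial C := ⟨⟨t, h.inv_mem_C ht ht2⟩, 1, fun e => by
    rw [show t = 1 from congrArg Subtype.val e, orderOf_one] at ht2; omega⟩
  exact Finite.one_lt_card

theorem eq_one_of_three {m : G} {x y z : G ⧸ M} (hxy : x ≠ y) (hyz : y ≠ z) (hxz : x ≠ z)
    (hx : m • x = x) (hy : m • y = y) (hz : m • z = z) : m = 1 := by
  induction x using QuotientGroup.induction_on with
  | _ a =>
    induction y using QuotientGroup.induction_on with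
    | _ b =>
      by_contra hm1
      rw [smul_coe_eq_iff] at hx hy
      have hg : a⁻¹ * b ∉ M := fun hm => hxy (QuotientGroup.eq.2 hm)
      have hk : a⁻¹ * m * a ∈ dSub M (a⁻¹ * b) := by
        refine mem_dSub.2 ⟨hx, ?_⟩
        rwa [show (a⁻¹ * b)⁻¹ * (a⁻¹ * m * a) * (a⁻¹ * b) = b⁻¹ * m * b by group]
      have hk1 : a⁻¹ * m * a ≠ 1 := fun e => hm1 (by
        calc m = a * (a⁻¹ * m * a) * a⁻¹ := by group
          _ = 1 := by rw [e]; group)
      have h2 : (a⁻¹ * m * a) • (a⁻¹ • z) = a⁻¹ • z := by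
        rw [← mul_smul, mul_inv_cancel_right, mul_smul, hz]
      rcases h.fix_two hg hk hk1 h2 with h3 | h3
      · rw [inv_smul_eq_iff, MulAction.Quotient.smul_coe, smul_eq_mul, mul_one] at h3
        exact hxz h3.symm
      · rw [inv_smul_eq_iff, MulAction.Quotient.smul_coe, smul_eq_mul, mul_inv_cancel_left] at h3
        exact hyz h3.symm

theorem isZassenhaus : Cfsg.IsZassenhausGroup G (G ⧸ M) := by
  classical
  set a : G ⧸ M := ((1 : G) : G ⧸ M)
  obtain ⟨g, -, hg⟩ := SetLike.exists_of_lt (lt_top_iff_ne_top.2 h.hse.1)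
  have hga : (g : G ⧸ M) ≠ a := coe_ne_base hg
  obtain ⟨t, ht, ht2⟩ := h.exists_inv
  have hcard := h.card_C
  have hC2 := h.one_lt_card_C
  obtain ⟨z, hz1, hz2⟩ : ∃ z : G ⧸ M, z ≠ a ∧ z ≠ (g : G ⧸ M) := by
    by_contra hall
    push Not at hall
    haveI := Fintype.ofFinite (G ⧸ M)
    have h1 : (Finset.univ : Finset (G ⧸ M)) ⊆ {a, (g : G ⧸ M)} := fun x _ => by
      by_cases hxa : x = a
      · simp [hxa]
      · simp [hall x hxa]
    have h2 := (Finset.card_le_card h1).trans Finset.card_le_two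
    rw [Finset.card_univ, ← Nat.card_eq_fintype_card] at h2
    omega
  have hpre : IsPretransitive G (G ⧸ M) := inferInstance
  refine ⟨⟨fun {m m'} hmm => ?_⟩, ?_, ?_, ?_, ?_⟩
  · have h1 : ∀ x : G ⧸ M, (m'⁻¹ * m) • x = x := fun x => by rw [mul_smul, hmm, inv_smul_smul]
    exact (inv_mul_eq_one.1
      (h.eq_one_of_three hga hz1.symm hz2.symm (h1 _) (h1 _) (h1 _))).symm
  · rw [is_two_pretransitive_iff]
    intro p q r s hpq hrs
    -- move any ordered pair to `(a, g)`
    have hto : ∀ p q : G ⧸ M, p ≠ q → ∃ x : G, x • p = a ∧ x • q = (g : G ⧸ M) := by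
      intro p q hpq
      obtain ⟨x, hx⟩ := exists_smul_eq G p a
      have hq : x • q ≠ a := fun e => hpq (smul_left_cancel x (hx.trans e.symm))
      obtain ⟨c, hc, hcq⟩ := h.regular_trans (out_not_mem hq) hg
      rw [QuotientGroup.out_eq'] at hcq
      exact ⟨c * x, by rw [mul_smul, hx, smul_base_iff.2 (h.C_le hc)], by rw [mul_smul, hcq]⟩
    obtain ⟨x, hxp, hxq⟩ := hto p q hpq
    obtain ⟨y, hyr, hys⟩ := hto r s hrs
    exact ⟨y⁻¹ * x, by rw [mul_smul, hxp, ← hyr, inv_smul_smul],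
      by rw [mul_smul, hxq, ← hys, inv_smul_smul]⟩
  · exact fun m x y z hxy hyz hxz => h.eq_one_of_three hxy hyz hxz
  · obtain ⟨k, hk, hk1⟩ := h.exists_ne_one hg
    exact ⟨k, hk1, a, g, hga.symm, smul_base_iff.2 (mem_dSub.1 hk).1,
      smul_coe_eq_iff.2 (mem_dSub.1 hk).2⟩
  · intro N hN hNt
    by_contra hall
    push Not at hall
    have hNM : ∀ x ∈ N, x ∈ M → x = 1 := fun x hxN hxM => by
      have h1 : (⟨x, hxN⟩ : N) ∈ stabilizer N a := smul_base_iff.2 hxM
      exact congrArg Subtype.val (Subgroup.mem_bot.1 ((hall a).le h1))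
    have htt := StrongEmb.mul_self_of_orderOf ht2
    have hinv : ∀ x ∈ N, t * x * t = x⁻¹ := by
      refine inverts_of_fpf htt N (fun x hx => ?_) fun x hx hxt =>
        hNM x hx (StrongEmb.mem_of_commute h.hse ht ht2 hxt)
      have := hN.conj_mem x hx t
      rwa [StrongEmb.inv_eq_of_orderOf ht2] at this
    have hNbot : N = ⊥ := h.hNA N hN ⟨⟨fun x y => Subtype.ext (show (x : G) * y = y * x by
      have h1 := hinv _ (N.mul_mem x.2 y.2)
      have h2 : t * ((x : G) * y) * t = (x : G)⁻¹ * (y : G)⁻¹ := by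
        calc t * ((x : G) * y) * t = t * x * (t * t) * y * t := by rw [htt]; group
          _ = t * x * t * (t * y * t) := by group
          _ = _ := by rw [hinv _ x.2, hinv _ y.2]
      rw [h2] at h1
      have h3 := congrArg (fun x : G => x⁻¹) h1
      simp only [mul_inv_rev, inv_inv] at h3
      exact h3.symm)⟩⟩
    obtain ⟨⟨x, hx⟩, hxg⟩ := hNt.exists_smul_eq a (g : G ⧸ M)
    rw [hNbot, Subgroup.mem_bot] at hx
    exact hga (by rw [← hxg]; show x • a = a; rw [hx, one_smul])

end Cfg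

end Cfsg.Agent.TICentralisers
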