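import Cfsg.Agent.Lib.TICentralisers.Basic
import Cfsg.Agent.Lib.TICentralisers.Zassenhaus
import Cfsg.Agent.Lib.PSL2.ThreeSizes.Basic
import Cfsg.Agent.Lib.PSL2.PGLHom
import Cfsg.Agent.Lib.ZassenhausFeit.Kernel
import Cfsg.Agent.Lib.ZassenhausSuzuki.Main
import Cfsg.Agent.S0338

/-!
# Groups with TI centralisers and no abelian normal subgroup are `PSL(2, 2^n)`
-/

set_option autoImplicit false
set_option linter.style.haveILetI false

namespace Cfsg.Agent.TICentralisers

open Subgroup MulAction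
open Cfsg.Agent.Involution
open Cfsg (IsTISubset IsCNGroup IsStronglyEmbedded)

variable {G : Type*} [Group G] [Finite G]

namespace Cfg

variable {M C : Subgroup G} (h : Cfg M C)
include h

/-- The common centraliser is abelian. -/
theorem comm_C (hnorm : ∀ w ∈ C, w ≠ 1 → ∀ m ∈ M, Commute (m * w * m⁻¹) w) :
    IsSimpleGroup G ∧ ∀ x ∈ C, ∀ y ∈ C, Commute x y := by
  classical
  haveI : Fact (Nat.Prime 2) := ⟨Nat.prime_two⟩
  haveI := Fintype.ofFinite G
  haveI := Fintype.ofFinite (G ⧸ M)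
  set a : G ⧸ M := ((1 : G) : G ⧸ M)
  obtain ⟨g, -, hg⟩ := SetLike.exists_of_lt (lt_top_iff_ne_top.2 h.hse.1)
  have hab : a ≠ (g : G ⧸ M) := (coe_ne_base hg).symm
  have hZ := h.isZassenhaus
  obtain ⟨t, ht, ht2⟩ := h.exists_inv
  have h2C : 2 ∣ Nat.card C := ht2 ▸ C.orderOf_dvd_natCard (h.inv_mem_C ht ht2)
  have hcard : Nat.card C + 1 = Fintype.card (G ⧸ M) := by
    rw [← Nat.card_eq_fintype_card]; exact h.card_C
  have hodd : Odd (Fintype.card (G ⧸ M)) := by
    obtain ⟨j, hj⟩ := h2C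
    exact ⟨j, by omega⟩
  haveI : IsSimpleGroup G := S0338.result hZ hodd
  refine ⟨inferInstance, ?_⟩
  have htwo : ZassenhausOdd.twoStab G a (g : G ⧸ M) = dSub M g := by
    ext d
    rw [ZassenhausOdd.mem_twoStab, mem_dSub, smul_base_iff, smul_coe_eq_iff]
  have hCa : C ≤ stabilizer G a := fun c hc => smul_base_iff.2 (h.C_le hc)
  have hfix : ∀ u ∈ C, u ≠ 1 → ∀ c : G ⧸ M, u • c = c → c = a := fun u hu hu1 c hc =>
    by_contra fun hca => hu1 (h.semiregular hu hca hc)
  have hpp := ZassenhausFeit.isPrimePow_card_kernel hZ hab hCa hcard hfix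
    (htwo ▸ h.odd_card hg)
  have hC2 : IsPGroup 2 C := by
    obtain ⟨p, k, hp, hk, hpk⟩ := hpp
    have hp' : p.Prime := hp.nat_prime
    have h2p : 2 = p := (Nat.prime_dvd_prime_iff_eq Nat.prime_two hp').1
      (Nat.prime_two.dvd_of_dvd_pow (hpk ▸ h2C))
    exact IsPGroup.of_card (n := k) (by rw [h2p, hpk])
  intro x hx y hy
  by_contra hxy
  obtain ⟨m, -, hm1, hΩ, -, hE, -, hZc, -⟩ := ZassenhausSuzuki.structure_of_nonabelian_two hZ hab
    hCa hcard hfix hC2 ⟨⟨x, hx⟩, ⟨y, hy⟩, fun e => hxy (congrArg Subtype.val e)⟩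
  rw [htwo] at hE
  set q := 2 ^ m with hq
  have hC : Nat.card C = q * q := by
    have hqq : 2 ^ (2 * m) = q * q := by rw [hq, two_mul, pow_add]
    rw [hqq] at hΩ
    omega
  have hxc : (⟨x, hx⟩ : C) ∉ Subgroup.center C := fun e =>
    hxy (congrArg Subtype.val (Subgroup.mem_center_iff.1 e ⟨y, hy⟩)).symm
  obtain ⟨w, hw⟩ : ∃ w : C, w ∉ Subgroup.center C := ⟨_, hxc⟩
  have hw1 : (w : G) ≠ 1 := fun e => hw (by
    rw [show w = 1 from Subtype.ext e]; exact one_mem _)
  -- conjugation by an element of `dSub M g`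
  have hcj : ∀ d : dSub M g, ∀ c : C, (d : G) * c * (d : G)⁻¹ ∈ C := fun d c =>
    h.conj_mem_C (mem_dSub.1 d.2).1 c.2
  have hcen : ∀ d : dSub M g, ∀ c : C, c ∈ Subgroup.center C →
      (⟨_, hcj d c⟩ : C) ∈ Subgroup.center C := by
    intro d c hc
    refine Subgroup.mem_center_iff.2 fun z => Subtype.ext ?_
    have h1 : (d : G)⁻¹ * z * d * c = c * ((d : G)⁻¹ * z * d) :=
      congrArg Subtype.val (Subgroup.mem_center_iff.1 hc
        ⟨(d : G)⁻¹ * z * d, by simpa using h.conj_mem_C (M.inv_mem (mem_dSub.1 d.2).1) z.2⟩)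
    show (z : G) * ((d : G) * c * (d : G)⁻¹) = (d : G) * c * (d : G)⁻¹ * z
    calc (z : G) * ((d : G) * c * (d : G)⁻¹) = (d : G) * ((d : G)⁻¹ * z * d * c) * (d : G)⁻¹ := by group
      _ = (d : G) * (c * ((d : G)⁻¹ * z * d)) * (d : G)⁻¹ := by rw [h1]
      _ = _ := by group
  -- a nontrivial element moves `w` out of its coset of the centre
  have hmove : ∀ d : dSub M g, ∀ z : C, z ∈ Subgroup.center C →
      (d : G) * w * (d : G)⁻¹ = w * z → d = 1 := by
    intro d z hz hdz
    by_contra hd1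
    have hd1' : (d : G) ≠ 1 := fun e => hd1 (Subtype.ext e)
    let f : Subgroup.center C → Subgroup.center C := fun c =>
      ⟨(c : C)⁻¹ * ⟨_, hcj d c⟩, mul_mem (inv_mem c.2) (hcen d c c.2)⟩
    have hf : Function.Injective f := by
      intro c c' hcc
      have h0 : ((c : C) : G)⁻¹ * ((d : G) * (c : C) * (d : G)⁻¹) =
          ((c' : C) : G)⁻¹ * ((d : G) * (c' : C) * (d : G)⁻¹) :=
        congrArg (fun z : Subgroup.center C => ((z : C) : G)) hcc
      have hcomm : ((c : C) : G) * (c' : C) = (c' : C) * (c : C) :=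
        congrArg Subtype.val (Subgroup.mem_center_iff.1 c'.2 (c : C))
      have h1 : Commute (d : G) (((c' : C) : G) * ((c : C) : G)⁻¹) := by
        show (d : G) * (((c' : C) : G) * ((c : C) : G)⁻¹) = ((c' : C) : G) * ((c : C) : G)⁻¹ * d
        calc (d : G) * (((c' : C) : G) * ((c : C) : G)⁻¹)
            = ((d : G) * (c' : C) * (d : G)⁻¹) * ((d : G) * (c : C) * (d : G)⁻¹)⁻¹ * d := by group
          _ = ((c' : C) : G) * (((c' : C) : G)⁻¹ * ((d : G) * (c' : C) * (d : G)⁻¹)) *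
              (((c : C) : G)⁻¹ * ((d : G) * (c : C) * (d : G)⁻¹))⁻¹ * ((c : C) : G)⁻¹ * d := by group
          _ = ((c' : C) : G) * ((c : C) : G)⁻¹ * d := by rw [← h0]; group
      have h2 := h.eq_one_of_commute hg d.2 hd1' (C.mul_mem (c' : C).2 (C.inv_mem (c : C).2)) h1
      exact Subtype.ext (Subtype.ext (mul_inv_eq_one.1 h2).symm)
    obtain ⟨c, hc⟩ := Finite.surjective_of_injective hf ⟨z, hz⟩
    have hc' : ((c : C) : G)⁻¹ * ((d : G) * (c : C) * (d : G)⁻¹) = z :=
      congrArg (fun z : Subgroup.center C => ((z : C) : G)) hc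
    have hwc : (w : G) * (c : C) = (c : C) * w :=
      congrArg Subtype.val (Subgroup.mem_center_iff.1 c.2 w)
    have h1 : Commute (d : G) ((w : G) * ((c : C) : G)⁻¹) := by
      show (d : G) * ((w : G) * ((c : C) : G)⁻¹) = (w : G) * ((c : C) : G)⁻¹ * d
      calc (d : G) * ((w : G) * ((c : C) : G)⁻¹)
          = ((d : G) * w * (d : G)⁻¹) * ((d : G) * (c : C) * (d : G)⁻¹)⁻¹ * d := by group
        _ = (w : G) * ((c : C) : G)⁻¹ * d := by rw [hdz, ← hc']; group
    have h2 := h.eq_one_of_commute hg d.2 hd1' (C.mul_mem w.2 (C.inv_mem (c : C).2)) h1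
    exact hw ((show w = (c : C) from Subtype.ext (mul_inv_eq_one.1 h2)) ▸ c.2)
  let ψ : dSub M g × Subgroup.center C → {c : C // c ∉ Subgroup.center C} := fun p =>
    ⟨⟨_, hcj p.1 w⟩ * (p.2 : C), fun hmem => hw (by
      have h1 : (⟨_, hcj p.1 w⟩ : C) ∈ Subgroup.center C := by
        simpa using mul_mem hmem (inv_mem p.2.2)
      have h2 := hcen p.1⁻¹ _ h1
      convert h2 using 1
      refine Subtype.ext ?_
      show (w : G) = ((p.1 : G))⁻¹ * ((p.1 : G) * w * (p.1 : G)⁻¹) * ((p.1 : G))⁻¹⁻¹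
      group)⟩
  have hψ : Function.Injective ψ := by
    rintro ⟨d, z⟩ ⟨d', z'⟩ hdd
    have h0 : (d : G) * w * (d : G)⁻¹ * ((z : C) : G) = (d' : G) * w * (d' : G)⁻¹ * ((z' : C) : G) :=
      congrArg (fun c : {c : C // c ∉ Subgroup.center C} => ((c : C) : G)) hdd
    have hz' := hcen d'⁻¹ _ (mul_mem z'.2 (inv_mem z.2))
    have h1 : d'⁻¹ * d = 1 := by
      refine hmove _ _ hz' ?_
      show (d' : G)⁻¹ * d * w * ((d' : G)⁻¹ * d)⁻¹ =
        w * ((d' : G)⁻¹ * (((z' : C) : G) * ((z : C) : G)⁻¹) * (d' : G)⁻¹⁻¹)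
      calc (d' : G)⁻¹ * d * w * ((d' : G)⁻¹ * d)⁻¹
          = (d' : G)⁻¹ * ((d : G) * w * (d : G)⁻¹ * ((z : C) : G)) * ((z : C) : G)⁻¹ * d' := by group
        _ = _ := by rw [h0]; group
    have h2 : d = d' := (inv_mul_eq_one.1 h1).symm
    subst h2
    exact Prod.ext rfl (Subtype.ext (Subtype.ext (mul_left_cancel h0)))
  have hψb : Function.Bijective ψ := by
    rw [Nat.bijective_iff_injective_and_card]
    refine ⟨hψ, ?_⟩
    rw [Nat.card_prod, hE, hZc]
    have h1 : Nat.card {c : C // c ∈ Subgroup.center C} + Nat.card {c : C // c ∉ Subgroup.center C}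
        = Nat.card C := by
      rw [← Nat.card_sum]
      exact Nat.card_congr (Equiv.sumCompl _)
    rw [show Nat.card {c : C // c ∈ Subgroup.center C} = q from hZc, hC] at h1
    rw [Nat.sub_one_mul]
    omega
  refine hw (Subgroup.mem_center_iff.2 fun c => Subtype.ext ?_)
  show (c : G) * w = w * c
  by_cases hc : c ∈ Subgroup.center C
  · exact (congrArg Subtype.val (Subgroup.mem_center_iff.1 hc w)).symm
  · obtain ⟨⟨d, z⟩, hdz⟩ := hψb.2 ⟨c, hc⟩
    have h0 : (d : G) * w * (d : G)⁻¹ * ((z : C) : G) = (c : G) :=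
      congrArg (fun c : {c : C // c ∉ Subgroup.center C} => ((c : C) : G)) hdz
    rw [← h0]
    have hzw : Commute ((z : C) : G) w :=
      (congrArg Subtype.val (Subgroup.mem_center_iff.1 z.2 w)).symm
    exact ((hnorm w w.2 hw1 _ (mem_dSub.1 d.2).1).mul_left hzw).eq

theorem exists_psl (hnorm : ∀ w ∈ C, w ≠ 1 → ∀ m ∈ M, Commute (m * w * m⁻¹) w) :
    ∃ n : ℕ, 2 ≤ n ∧
      Nonempty (G ≃* Matrix.ProjectiveSpecialLinearGroup (Fin 2) (GaloisField 2 n)) := by
  classical
  obtain ⟨hs, hc⟩ := h.comm_C hnorm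
  haveI := hs
  have hne : ¬ IsMulCommutative G := fun hcom => by
    have h1 := h.hNA ⊤ inferInstance ⟨⟨fun a b => Subtype.ext (hcom.is_comm.comm (a : G) b)⟩⟩
    haveI : Nontrivial G := IsSimpleGroup.toNontrivial
    exact top_ne_bot h1
  obtain ⟨t, ht, ht2⟩ := h.exists_inv
  have h2 : 2 ∣ Nat.card G := ht2 ▸ _root_.orderOf_dvd_natCard t
  obtain ⟨n, F, iF, iFt, hn, hF, ⟨e⟩⟩ := ThreeSizes.exists_psl hne h2 fun s hs2 x hx y hy => by
    obtain ⟨b, hb⟩ := isConj_iff.1 (StrongEmb.isConj_involutions h.hse hs2 ht2)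
    have key : ∀ z : G, z * s = s * z → b * z * b⁻¹ ∈ C := fun z hz => by
      refine h.mem_of_commute ht ht2 ?_
      show b * z * b⁻¹ * t = t * (b * z * b⁻¹)
      calc b * z * b⁻¹ * t = b * (z * s) * b⁻¹ := by rw [← hb]; group
        _ = b * (s * z) * b⁻¹ := by rw [hz]
        _ = t * (b * z * b⁻¹) := by rw [← hb]; group
    have h1 := (hc _ (key x (mem_centralizer_singleton_iff.1 hx)) _
      (key y (mem_centralizer_singleton_iff.1 hy))).eq
    rw [show b * x * b⁻¹ * (b * y * b⁻¹) = b * (x * y) * b⁻¹ by group,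
      show b * y * b⁻¹ * (b * x * b⁻¹) = b * (y * x) * b⁻¹ by group] at h1
    exact mul_left_cancel (mul_right_cancel h1)
  haveI := Fintype.ofFinite (GaloisField 2 n)
  refine ⟨n, hn, ⟨e.trans (PSL2.pslCongr (FiniteField.ringEquivOfCardEq ?_))⟩⟩
  rw [hF, ← Nat.card_eq_fintype_card, GaloisField.card 2 n (by omega)]

end Cfg

/-- No abelian normal subgroup: the normaliser of a Sylow `2`-subgroup gives the configuration. -/
theorem exists_psl (hTI : ∀ x : G, IsTISubset (centralizer ({x} : Set G) : Set G))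
    (hnn : ¬ Group.IsNilpotent G)
    (hNA : ∀ A : Subgroup G, A.Normal → IsMulCommutative A → A = ⊥) :
    ∃ n : ℕ, 2 ≤ n ∧
      Nonempty (G ≃* Matrix.ProjectiveSpecialLinearGroup (Fin 2) (GaloisField 2 n)) := by
  classical
  haveI : Fact (Nat.Prime 2) := ⟨Nat.prime_two⟩
  have hCN := isCN hTI
  haveI : Nontrivial G := by
    rcases subsingleton_or_nontrivial G with hs | hs
    · exact absurd (inferInstance : Group.IsNilpotent G) hnn
    · exact hs
  have h2 : 2 ∣ Nat.card G := by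
    by_contra h2
    haveI := OddOrder.CN.isSolvable_of_isCN
      (Nat.odd_iff.2 (Nat.two_dvd_ne_zero.1 h2)) hCN
    obtain ⟨A, -, hAn, -, hA1, -, hAc, -, -⟩ :=
      Solvable.exists_abelian_minimal_normal (K := (⊤ : Subgroup G)) inferInstance top_ne_bot
    exact hA1 (hNA A hAn hAc)
  obtain ⟨S⟩ := (inferInstance : Nonempty (Sylow 2 G))
  set M := normalizer ((S : Subgroup G) : Set G) with hM
  have hS1 : (S : Subgroup G) ≠ ⊥ := S.ne_bot_of_dvd_card h2
  haveI : Nontrivial (S : Subgroup G) := (Subgroup.nontrivial_iff_ne_bot _).2 hS1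
  set Z := (Subgroup.center (S : Subgroup G)).map (S : Subgroup G).subtype with hZdef
  have hZ1 : Z ≠ ⊥ := by
    haveI := S.2.center_nontrivial
    rw [Ne, map_eq_bot_iff_of_injective _ (S : Subgroup G).subtype_injective]
    exact (Subgroup.nontrivial_iff_ne_bot _).1 inferInstance
  have hMt : M ≠ ⊤ := fun e => by
    haveI : (S : Subgroup G).Normal := normalizer_eq_top_iff.1 e
    haveI : Z.Normal := ConjAct.normal_of_characteristic_of_normal
    exact hZ1 (hNA Z inferInstance (Subgroup.map_isMulCommutative _ _))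
  have hZS : Z ≤ (S : Subgroup G) := Subgroup.map_subtype_le _
  have hZc : ∀ z ∈ Z, ∀ s ∈ (S : Subgroup G), Commute s z := by
    rintro _ ⟨z, hz, rfl⟩ s hs
    exact congrArg Subtype.val (Subgroup.mem_center_iff.1 hz ⟨s, hs⟩)
  -- 2-elements of `M` lie in `S`
  have hMS : ∀ x ∈ M, (∃ k : ℕ, orderOf x = 2 ^ k) → x ∈ (S : Subgroup G) := by
    intro x hx ⟨k, hk⟩
    have hP : IsPGroup 2 (zpowers x) := IsPGroup.of_card (n := k) (by rw [Nat.card_zpowers, hk])
    exact (hP.inf_normalizer_sylow S).le ⟨mem_zpowers x, hx⟩ |>.2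
  have htwo : ∀ x ∈ (S : Subgroup G), ∃ k : ℕ, orderOf x = 2 ^ k := fun x hx => by
    obtain ⟨k, hk⟩ := IsPGroup.iff_orderOf.1 S.2 ⟨x, hx⟩
    exact ⟨k, by rwa [Subgroup.orderOf_mk] at hk⟩
  -- Sylow 2-subgroups inside a common nilpotent subgroup
  have huniq : ∀ K : Subgroup G, Group.IsNilpotent K → (S : Subgroup G) ≤ K → ∀ g : G,
      (∀ s ∈ (S : Subgroup G), g * s * g⁻¹ ∈ K) → g ∈ M := by
    intro K hK hSK g hgS
    haveI := hK
    have hle : ∀ s ∈ (S : Subgroup G), g * s * g⁻¹ ∈ (S : Subgroup G) := fun s hs => by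
      obtain ⟨k, hk⟩ := htwo s hs
      obtain ⟨T, hT⟩ := (IsPGroup.of_card (n := k) (by
        rw [Nat.card_zpowers, Subgroup.orderOf_mk, ← MulAut.conj_apply, MulEquiv.orderOf_eq, hk]) :
        IsPGroup 2 (zpowers (⟨g * s * g⁻¹, hgS s hs⟩ : K))).exists_le_sylow
      haveI := Sylow.unique_of_normal T inferInstance
      have h1 := hT (mem_zpowers _)
      rw [Subsingleton.elim T (S.subtype hSK)] at h1
      exact h1
    refine mem_normalizer_iff.2 fun n => ⟨hle n, fun hn => ?_⟩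
    obtain ⟨⟨y, hy⟩, hyn⟩ := Finite.surjective_of_injective
      (f := fun s : (S : Subgroup G) => (⟨g * s * g⁻¹, hle s s.2⟩ : (S : Subgroup G)))
      (fun a b hab => Subtype.ext (mul_left_cancel (mul_right_cancel (congrArg Subtype.val hab :))))
      ⟨_, hn⟩
    have h1 : g * y * g⁻¹ = g * n * g⁻¹ := congrArg Subtype.val hyn
    rwa [← mul_left_cancel (mul_right_cancel h1)]
  -- centralisers of nontrivial elements of `S` lie in `M`
  have hcent : ∀ w ∈ (S : Subgroup G), w ≠ 1 → ∀ x : G, Commute x w → x ∈ M := by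
    intro w hw hw1 x hxw
    obtain ⟨⟨t, ht⟩, ht1⟩ := Subgroup.ne_bot_iff_exists_ne_one.1 hZ1
    have ht0 : t ≠ 1 := fun e => ht1 (Subtype.ext e)
    have hwt : Commute w t := hZc t ht w hw
    refine huniq (centralizer ({t} : Set G)) (hCN t ht0)
      (fun s hs => mem_centralizer_singleton_iff.2 (hZc t ht s hs).eq) x fun s hs => ?_
    have hx := mem_normalizer_of_conj hTI hw1 hwt
      (by rw [hxw.eq, mul_inv_cancel_right]; exact hwt)
    exact (mem_normalizer_iff.1 hx s).1 (mem_centralizer_singleton_iff.2 (hZc t ht s hs).eq)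
  have hse : IsStronglyEmbedded M := by
    refine ⟨hMt, ?_, fun g hg => ?_⟩
    · exact even_iff_two_dvd.2 ((S.dvd_card_of_dvd_card h2).trans (card_dvd_of_le le_normalizer))
    · rw [← Nat.not_even_iff_odd]
      intro hev
      obtain ⟨x', hx2'⟩ := exists_prime_orderOf_dvd_card' 2 hev.two_dvd
      obtain ⟨hx, y, hy, hyx⟩ := x'.2
      rw [← Subgroup.orderOf_coe] at hx2'
      generalize hxdef : (x' : G) = x at hx hyx hx2'
      have hx2 : orderOf x = 2 := hx2'
      have hyx' : g * y * g⁻¹ = x := hyx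
      have hy2 : orderOf y = 2 := by
        rwa [← hyx', ← MulAut.conj_apply, MulEquiv.orderOf_eq] at hx2
      have hxS := hMS x hx ⟨1, by rw [hx2, pow_one]⟩
      have hyS := hMS y hy ⟨1, by rw [hy2, pow_one]⟩
      have hx1 : x ≠ 1 := fun e => by rw [e, orderOf_one] at hx2; omega
      obtain ⟨⟨t, ht⟩, ht1⟩ := Subgroup.ne_bot_iff_exists_ne_one.1 hZ1
      have ht0 : t ≠ 1 := fun e => ht1 (Subtype.ext e)
      have hconj : ∀ a b : G, Commute a b → Commute (g * a * g⁻¹) (g * b * g⁻¹) := fun a b hab =>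
        hab.map (MulAut.conj g).toMonoidHom
      have ht'x : Commute (g * t * g⁻¹) x := hyx' ▸ hconj t y (hZc t ht y hyS).symm
      have ht'S : g * t * g⁻¹ ∈ (S : Subgroup G) := by
        refine hMS _ (hcent x hxS hx1 _ ht'x) ?_
        obtain ⟨k, hk⟩ := htwo t (hZS ht)
        exact ⟨k, by rw [← MulAut.conj_apply, MulEquiv.orderOf_eq, hk]⟩
      refine hg (mem_normalizer_iff.2 fun n => ⟨fun hn => ?_, fun hn => ?_⟩)
      all_goals
        have hle : ∀ s ∈ (S : Subgroup G), g * s * g⁻¹ ∈ (S : Subgroup G) := fun s hs => by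
          refine hMS _ (hcent _ ht'S (fun e => ht0 (conj_eq_one_iff.1 e)) _
            (hconj s t (hZc t ht s hs))) ?_
          obtain ⟨k, hk⟩ := htwo s hs
          exact ⟨k, by rw [← MulAut.conj_apply, MulEquiv.orderOf_eq, hk]⟩
      · exact hle n hn
      · obtain ⟨⟨z, hz⟩, hzn⟩ := Finite.surjective_of_injective
          (f := fun s : (S : Subgroup G) => (⟨g * s * g⁻¹, hle s s.2⟩ : (S : Subgroup G)))
          (fun a b hab =>
            Subtype.ext (mul_left_cancel (mul_right_cancel (congrArg Subtype.val hab :))))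
          ⟨_, hn⟩
        have h1 : g * z * g⁻¹ = g * n * g⁻¹ := congrArg Subtype.val hzn
        rwa [← mul_left_cancel (mul_right_cancel h1)]
  -- an involution in the centre of `S`
  obtain ⟨t, htZ, ht2⟩ : ∃ t ∈ Z, orderOf t = 2 := by
    obtain ⟨⟨t, ht⟩, ht1⟩ := Subgroup.ne_bot_iff_exists_ne_one.1 hZ1
    obtain ⟨k, hk⟩ := htwo t (hZS ht)
    rcases k with _ | k
    · exact absurd (orderOf_eq_one_iff.1 (hk.trans (pow_zero 2))) fun e => ht1 (Subtype.ext e)
    refine ⟨t ^ 2 ^ k, pow_mem ht _, ?_⟩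
    rw [orderOf_pow_of_dvd (pow_ne_zero _ two_ne_zero) (hk ▸ pow_dvd_pow 2 (Nat.le_succ k)), hk,
      pow_succ, Nat.mul_div_cancel_left _ (by positivity)]
  have hSM : (S : Subgroup G) ≤ M := le_normalizer
  have htM : t ∈ M := hSM (hZS htZ)
  -- every involution of `M` is central in `S`
  have hinvZ : ∀ s ∈ M, orderOf s = 2 → ∀ a ∈ (S : Subgroup G), Commute a s := by
    intro s hs hs2 a ha
    obtain ⟨b, hb⟩ := isConj_iff.1 (StrongEmb.isConj_involutions hse ht2 hs2)
    have hbM : b ∈ M := StrongEmb.mem_of_conj_eq hse htM ht2 hb hs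
    have ha' : b⁻¹ * a * b ∈ (S : Subgroup G) := by
      simpa using (mem_normalizer_iff.1 (M.inv_mem hbM) a).1 ha
    have h1 := (hZc t htZ _ ha').map (MulAut.conj b).toMonoidHom
    simpa [hb, mul_assoc] using h1
  -- the common centraliser
  have hC : ∀ s ∈ M, orderOf s = 2 → ∀ r ∈ M, orderOf r = 2 → ∀ x : G, Commute x s →
      Commute x r := by
    intro s hs hs2 r hr hr2 x hxs
    have hs1 : s ≠ 1 := fun e => by rw [e, orderOf_one] at hs2; omega
    haveI := hCN s hs1
    set K := centralizer ({s} : Set G)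
    have hSK : (S : Subgroup G) ≤ K := fun a ha =>
      mem_centralizer_singleton_iff.2 (hinvZ s hs hs2 a ha).eq
    have hrS : r ∈ (S : Subgroup G) := hMS r hr ⟨1, by rw [hr2, pow_one]⟩
    have hX : (centralizer ({r} : Set G)).subgroupOf K = ⊤ := by
      refine Components.eq_top_of_forall_sylow fun p hp _ => ?_
      haveI := Fact.mk hp
      rcases eq_or_ne p 2 with rfl | hp2
      · exact ⟨S.subtype hSK, fun a ha => mem_centralizer_singleton_iff.2 (hinvZ r hr hr2 _ ha).eq⟩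
      · obtain ⟨P⟩ := (inferInstance : Nonempty (Sylow p K))
        refine ⟨P, fun a ha => mem_centralizer_singleton_iff.2 ?_⟩
        obtain ⟨j, hj⟩ := IsPGroup.iff_orderOf.1 P.2 ⟨a, ha⟩
        rw [Subgroup.orderOf_mk] at hj
        exact OddOrder.CN.commute_of_nilpotent (hCN s hs1) (p := 2) (hSK hrS) a.2
          ⟨1, by rw [pow_one, ← hr2, pow_orderOf_eq_one]⟩
          (by rw [Subgroup.coe_subtype, Subgroup.orderOf_coe, hj]
              exact Nat.Coprime.pow_left _ ((Nat.coprime_primes hp Nat.prime_two).2 hp2))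
    have h1 : (⟨x, mem_centralizer_singleton_iff.2 hxs.eq⟩ : K) ∈
        (centralizer ({r} : Set G)).subgroupOf K := hX ▸ mem_top _
    exact mem_centralizer_singleton_iff.1 h1
  have h : Cfg M (centralizer ({t} : Set G)) :=
    ⟨fun c hc _ => hCN c hc, hse, fun s hs hs2 => le_antisymm
      (fun x hx => mem_centralizer_singleton_iff.2
        (hC s hs hs2 t htM ht2 x (mem_centralizer_singleton_iff.1 hx)).eq)
      (fun x hx => mem_centralizer_singleton_iff.2
        (hC t htM ht2 s hs hs2 x (mem_centralizer_singleton_iff.1 hx)).eq), hNA⟩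
  refine h.exists_psl fun w hw _ m hm => ?_
  have ht1 : t ≠ 1 := fun e => by rw [e, orderOf_one] at ht2; omega
  have hwt := h.commute_of_mem htM ht2 hw
  have hwt' := h.commute_of_mem (M.mul_mem (M.mul_mem hm htM) (M.inv_mem hm))
    (by rw [StrongEmb.orderOf_conj', ht2]) hw
  exact conj_commute hTI ht1 hwt.symm hwt'.symm (Commute.refl w)

end Cfsg.Agent.TICentralisers
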