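import Cfsg.Agent.Lib.OddOrder.CNBasic
import Cfsg.Agent.Lib.Components.Fitting
import Cfsg.Prelude.Def_OddOrderLocal
import Mathlib

/-!
# Groups all of whose element centralisers are TI subsets

Such a group is a CN-group, and is nilpotent as soon as its centre is nontrivial.
-/

set_option autoImplicit false
set_option linter.style.haveILetI false

namespace Cfsg.Agent.TICentralisers

open Subgroup
open Cfsg (IsCNGroup IsTISubset)

variable {G : Type*} [Group G]

/-- If every element centraliser is normal then conjugates commute, so the group is nilpotent. -/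
theorem isNilpotent_of_normal_centralizers {K : Type*} [Group K] [Finite K]
    (h : ∀ y : K, (centralizer ({y} : Set K)).Normal) : Group.IsNilpotent K := by
  have hconj : ∀ g y : K, Commute (g * y * g⁻¹) y := fun g y =>
    mem_centralizer_singleton_iff.1 ((h y).conj_mem y (mem_centralizer_singleton_iff.2 rfl) g)
  -- the commutator of elements of coprime order has order dividing both
  have hco : ∀ x y : K, (orderOf x).Coprime (orderOf y) → Commute x y := by
    intro x y hxy
    set c := x * y * x⁻¹ * y⁻¹ with hc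
    have h1 : c ^ orderOf y = 1 := by
      rw [hc, ((hconj x y).inv_right).mul_pow, conj_pow, inv_pow, pow_orderOf_eq_one]
      group
    have h2 : c ^ orderOf x = 1 := by
      rw [show c = x * (y * x⁻¹ * y⁻¹) by rw [hc]; group]
      have h3 : Commute x (y * x⁻¹ * y⁻¹) := by
        have := (hconj y x).symm.inv_right
        rwa [show (y * x * y⁻¹)⁻¹ = y * x⁻¹ * y⁻¹ by group] at this
      rw [h3.mul_pow, conj_pow, inv_pow, pow_orderOf_eq_one]
      group
    have h4 : orderOf c = 1 :=
      Nat.eq_one_of_dvd_coprimes hxy (orderOf_dvd_of_pow_eq_one h2) (orderOf_dvd_of_pow_eq_one h1)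
    have h5 : c = 1 := orderOf_eq_one_iff.1 h4
    calc x * y = c * (y * x) := by rw [hc]; group
      _ = y * x := by rw [h5, one_mul]
  refine (Group.isNilpotent_of_finite_tfae.out 0 3).2 fun p hp P => ?_
  rw [← normalizer_eq_top_iff]
  refine Components.eq_top_of_forall_sylow fun q hq _ => ?_
  haveI := Fact.mk hq
  haveI := hp
  rcases eq_or_ne q p with rfl | hqp
  · exact ⟨P, le_normalizer⟩
  obtain ⟨Q⟩ := (inferInstance : Nonempty (Sylow q K))
  refine ⟨Q, fun a ha => mem_normalizer_iff.2 fun n => ?_⟩
  have key : ∀ b ∈ (P : Subgroup K), Commute a b := fun b hb => by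
    obtain ⟨i, hi⟩ := IsPGroup.iff_orderOf.1 Q.2 ⟨a, ha⟩
    obtain ⟨j, hj⟩ := IsPGroup.iff_orderOf.1 P.2 ⟨b, hb⟩
    rw [Subgroup.orderOf_mk] at hi hj
    refine hco a b ?_
    rw [hi, hj]
    exact Nat.Coprime.pow _ _ ((Nat.coprime_primes hq hp.out).2 hqp)
  constructor
  · intro hn
    rw [(key n hn).eq, mul_inv_cancel_right]
    exact hn
  · intro hn
    have h1 : a * (a * n * a⁻¹) = a * n * a⁻¹ * a := (key _ hn).eq
    have h2 : a * n * a⁻¹ = n := by
      calc a * n * a⁻¹ = a⁻¹ * (a * (a * n * a⁻¹)) := by group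
        _ = a⁻¹ * (a * n * a⁻¹ * a) := by rw [h1]
        _ = n := by group
    rwa [h2] at hn

variable (hTI : ∀ x : G, IsTISubset (centralizer ({x} : Set G) : Set G))
include hTI

theorem mem_normalizer_of_conj {y z g : G} (hz : z ≠ 1) (hzy : Commute z y)
    (h : Commute (g * z * g⁻¹) y) : g ∈ normalizer (centralizer ({y} : Set G) : Set G) := by
  by_contra hg
  exact hz (hTI y g hg z (mem_centralizer_singleton_iff.2 hzy.eq)
    (mem_centralizer_singleton_iff.2 h.eq))

theorem conj_commute {y z g n : G} (hz : z ≠ 1) (hzy : Commute z y)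
    (h : Commute (g * z * g⁻¹) y) (hn : Commute n y) : Commute (g * n * g⁻¹) y :=
  mem_centralizer_singleton_iff.1
    ((mem_normalizer_iff.1 (mem_normalizer_of_conj hTI hz hzy h) n).1
      (mem_centralizer_singleton_iff.2 hn.eq))

theorem isCN [Finite G] : IsCNGroup G := by
  intro x hx
  refine isNilpotent_of_normal_centralizers fun y => ⟨fun n hn k => ?_⟩
  rw [mem_centralizer_singleton_iff] at hn ⊢
  have hk : (k : G) * x * (k : G)⁻¹ = x := by
    rw [mem_centralizer_singleton_iff.1 k.2, mul_inv_cancel_right]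
  have hxy : Commute x (y : G) := (mem_centralizer_singleton_iff.1 y.2).symm
  exact Subtype.ext (conj_commute hTI (z := x) hx hxy (by rw [hk]; exact hxy)
    (congrArg Subtype.val hn : (n : G) * y = y * n)).eq

theorem center_eq_bot [Finite G] (hnn : ¬ Group.IsNilpotent G) : Subgroup.center G = ⊥ := by
  by_contra hne
  obtain ⟨⟨z, hz⟩, hz1⟩ := Subgroup.ne_bot_iff_exists_ne_one.1 hne
  have hzc := Subgroup.mem_center_iff.1 hz
  refine hnn (isNilpotent_of_normal_centralizers fun y => ⟨fun n hn g => ?_⟩)
  rw [mem_centralizer_singleton_iff] at hn ⊢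
  exact (conj_commute hTI (z := z) (fun h => hz1 (Subtype.ext h)) (hzc y).symm
    (by rw [hzc g, mul_inv_cancel_right]; exact (hzc y).symm) hn).eq

end Cfsg.Agent.TICentralisers
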