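import Cfsg.Agent.Lib.TICentralisers.Basic
import Cfsg.Agent.Lib.OddOrder.CNSolvable

/-!
# TI centralisers with a nontrivial abelian normal subgroup: Frobenius groups
-/

set_option autoImplicit false
set_option linter.style.haveILetI false

namespace Cfsg.Agent.TICentralisers

open Subgroup
open Cfsg (IsTISubset IsCNGroup fittingSubgroup)
open scoped IsMulCommutative

variable {G : Type*} [Group G] [Finite G]

/-- If the centraliser of an element of order four of a generalised quaternion group is normal,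
the group has order at most eight. -/
theorem quaternion_le_one {n : ℕ} (g b : QuaternionGroup (2 ^ n))
    (hg : g = QuaternionGroup.a 1) (hb : b = QuaternionGroup.xa 0)
    (h : b * (g * b * g⁻¹) = g * b * g⁻¹ * b) : n ≤ 1 := by
  subst hg hb
  have hi : (QuaternionGroup.a 1 : QuaternionGroup (2 ^ n))⁻¹ = QuaternionGroup.a (-1) :=
    inv_eq_of_mul_eq_one_right (by rw [QuaternionGroup.a_mul_a, add_neg_cancel]; rfl)
  simp only [hi, QuaternionGroup.a_mul_xa, QuaternionGroup.xa_mul_a,
    QuaternionGroup.xa_mul_xa, QuaternionGroup.a.injEq] at h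
  have h4 : ((4 : ℕ) : ZMod (2 * 2 ^ n)) = 0 := by push_cast; linear_combination -h
  rw [ZMod.natCast_eq_zero_iff] at h4
  have h5 := Nat.le_of_dvd (by norm_num) h4
  by_contra hn
  have h6 : 2 ^ 2 ≤ 2 ^ n := Nat.pow_le_pow_right two_pos (by omega)
  omega

/-- A nilpotent fixed-point-free group with TI centralisers is cyclic or `C_m × Q₈`, `m` odd. -/
theorem shape_of_fpf (hTI : ∀ x : G, IsTISubset (centralizer ({x} : Set G) : Set G))
    (H : Subgroup G) [Group.IsNilpotent H] {V : Type*} [CommGroup V] [Finite V] [Nontrivial V]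
    {φ : H →* MulAut V} (hφ : Frobenius.Fpf.IsFpf φ) :
    IsCyclic H ∨ ∃ m : ℕ, Odd m ∧ Nonempty (H ≃* Multiplicative (ZMod m) × QuaternionGroup 2) := by
  classical
  rcases OddOrder.CN.isCyclic_or_quaternion_prod hφ with h | ⟨C, Q, hCQ, hcomm, hC, hCodd, n, ⟨e⟩⟩
  · exact Or.inl h
  haveI := hC
  have hn : n ≤ 1 := by
    let f : QuaternionGroup (2 ^ n) →* G := H.subtype.comp (Q.subtype.comp e.symm.toMonoidHom)
    have hf : Function.Injective f :=
      H.subtype_injective.comp (Q.subtype_injective.comp e.symm.injective)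
    set z : QuaternionGroup (2 ^ n) := QuaternionGroup.a ((2 ^ n : ℕ) : ZMod (2 * 2 ^ n)) with hz
    have hz1 : z ≠ 1 := by
      rw [hz, QuaternionGroup.one_def]
      intro h
      have h1 := QuaternionGroup.a.inj h
      rw [ZMod.natCast_eq_zero_iff] at h1
      have := Nat.two_pow_pos n
      have := Nat.le_of_dvd this h1
      omega
    have hneg : -((2 ^ n : ℕ) : ZMod (2 * 2 ^ n)) = ((2 ^ n : ℕ) : ZMod (2 * 2 ^ n)) := by
      rw [neg_eq_iff_add_eq_zero, ← Nat.cast_add, ZMod.natCast_eq_zero_iff, two_mul]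
    have hzc : ∀ q : QuaternionGroup (2 ^ n), z * q = q * z := by
      intro q
      cases q with
      | a i => rw [hz, QuaternionGroup.a_mul_a, QuaternionGroup.a_mul_a, add_comm]
      | xa i => rw [hz, QuaternionGroup.a_mul_xa, QuaternionGroup.xa_mul_a, sub_eq_add_neg, hneg]
    set g : QuaternionGroup (2 ^ n) := QuaternionGroup.a 1
    set b : QuaternionGroup (2 ^ n) := QuaternionGroup.xa 0
    refine quaternion_le_one g b rfl rfl (hf ?_)
    have hgz : f g * f z * (f g)⁻¹ = f z := by
      rw [← map_inv, ← map_mul, ← map_mul, ← hzc g, mul_inv_cancel_right]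
    have h1 := conj_commute hTI (y := f b) (z := f z) (g := f g) (n := f b)
      (fun h => hz1 (hf (h.trans (map_one f).symm)))
      (show f z * f b = f b * f z by rw [← map_mul, ← map_mul, hzc b])
      (by rw [hgz]; exact show f z * f b = f b * f z by rw [← map_mul, ← map_mul, hzc b])
      (Commute.refl _)
    rw [← map_inv, ← map_mul, ← map_mul] at h1
    simpa [map_mul] using h1.symm.eq
  rcases Nat.le_one_iff_eq_zero_or_eq_one.1 hn with rfl | rfl
  · left
    haveI : IsCyclic (QuaternionGroup (2 ^ 0)) := by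
      rw [pow_zero]; exact QuaternionGroup.quaternionGroup_one_isCyclic
    haveI : IsCyclic Q := isCyclic_of_surjective e.symm e.symm.surjective
    refine Frobenius.Fpf.isCyclic_of_comm hφ fun x y => ?_
    have htop : ∀ w : H, w ∈ C ⊔ Q := fun w => hCQ ▸ mem_top w
    letI : CommGroup C := IsCyclic.commGroup
    letI : CommGroup Q := IsCyclic.commGroup
    have hQC : Q ≤ centralizer (C : Set H) := fun q hq => mem_centralizer_iff.2 fun c hc => hcomm c hc q hq
    have hCC : C ≤ centralizer (C : Set H) := fun c hc => mem_centralizer_iff.2 fun c' hc' =>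
      congrArg Subtype.val (mul_comm (⟨c', hc'⟩ : C) ⟨c, hc⟩)
    have hQQ : Q ≤ centralizer (Q : Set H) := fun c hc => mem_centralizer_iff.2 fun c' hc' =>
      congrArg Subtype.val (mul_comm (⟨c', hc'⟩ : Q) ⟨c, hc⟩)
    have hCQ' : C ≤ centralizer (Q : Set H) := fun c hc => mem_centralizer_iff.2 fun q hq =>
      (hcomm c hc q hq).symm
    have h1 : (⊤ : Subgroup H) ≤ centralizer (C : Set H) := hCQ ▸ sup_le hCC hQC
    have h2 : (⊤ : Subgroup H) ≤ centralizer (Q : Set H) := hCQ ▸ sup_le hCQ' hQQ
    have h3 : C ⊔ Q ≤ centralizer {x} := sup_le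
      (fun c hc => mem_centralizer_singleton_iff.2 (mem_centralizer_iff.1 (h1 (mem_top x)) c hc))
      (fun c hc => mem_centralizer_singleton_iff.2 (mem_centralizer_iff.1 (h2 (mem_top x)) c hc))
    exact (mem_centralizer_singleton_iff.1 (h3 (htop y))).symm
  · right
    refine ⟨Nat.card C, hCodd, ⟨?_⟩⟩
    have hd : Disjoint C Q := by
      refine PCore.disjoint_of_isPGroup_of_coprime (p := 2) ?_ ?_ |>.symm
      · refine IsPGroup.of_card (n := 3) ?_
        rw [Nat.card_congr e.toEquiv, Nat.card_eq_fintype_card, QuaternionGroup.card]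
        norm_num
      · exact Nat.coprime_two_right.2 hCodd
    have hcq : ∀ (c : C) (q : Q), Commute (C.subtype c) (Q.subtype q) :=
      fun c q => hcomm c c.2 q q.2
    have hinj : Function.Injective (MonoidHom.noncommCoprod C.subtype Q.subtype hcq) :=
      (MonoidHom.noncommCoprod_injective _ _ _).2 ⟨C.subtype_injective, Q.subtype_injective, by
        rw [range_subtype, range_subtype]; exact hd⟩
    have hsurj : Function.Surjective (MonoidHom.noncommCoprod C.subtype Q.subtype hcq) := by
      rw [← MonoidHom.range_eq_top, MonoidHom.noncommCoprod_range, range_subtype, range_subtype,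
        hCQ]
    let F : C × Q →* H := MonoidHom.noncommCoprod C.subtype Q.subtype hcq
    have hF : Function.Bijective F := ⟨hinj, hsurj⟩
    exact (MulEquiv.ofBijective F hF).symm.trans
      (MulEquiv.prodCongr (zmodCyclicMulEquiv hC).symm e)

/-- A nontrivial normal abelian subgroup forces a Frobenius group. -/
theorem frobenius_of_normal_abelian (hTI : ∀ x : G, IsTISubset (centralizer ({x} : Set G) : Set G))
    (hnn : ¬ Group.IsNilpotent G) (A : Subgroup G) [hA : A.Normal] [IsMulCommutative A]
    (hA1 : A ≠ ⊥) :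
    ∃ H : Subgroup G, Cfsg.IsFrobeniusComplement H ∧
      (IsCyclic H ∨ ∃ m : ℕ, Odd m ∧
        Nonempty (H ≃* Multiplicative (ZMod m) × QuaternionGroup 2)) := by
  classical
  have hCN := isCN hTI
  set F := fittingSubgroup G
  haveI hFnil := Components.fittingSubgroup_isNilpotent G
  haveI : F.Normal := Components.fittingSubgroup_normal G
  haveI : Group.IsNilpotent A := OddOrder.CN.isNilpotent_of_mul_comm fun a b =>
    IsMulCommutative.is_comm.comm a b
  have hAF : A ≤ F := Components.le_fittingSubgroup hA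
  have hF1 : F ≠ ⊥ := fun h => hA1 (le_bot_iff.1 (h ▸ hAF))
  have hFt : F ≠ ⊤ := fun h => hnn (by
    haveI := hFnil
    exact Group.nilpotent_of_mulEquiv ((MulEquiv.subgroupCongr h).trans Subgroup.topEquiv))
  -- the centre of `F`
  set Z := (Subgroup.center F).map F.subtype with hZdef
  haveI hZn : Z.Normal := ConjAct.normal_of_characteristic_of_normal
  haveI : Nontrivial F := (Subgroup.nontrivial_iff_ne_bot F).2 hF1
  have hZ1 : Z ≠ ⊥ := by
    intro h
    have h1 := Solvable.inf_center_ne_bot (G := F) (N := ⊤) top_ne_bot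
    rw [top_inf_eq] at h1
    exact h1 ((map_eq_bot_iff_of_injective _ F.subtype_injective).1 h)
  have hZc : ∀ z ∈ Z, ∀ y ∈ F, Commute z y := by
    rintro _ ⟨z, hz, rfl⟩ y hy
    exact (congrArg Subtype.val (Subgroup.mem_center_iff.1 hz ⟨y, hy⟩)).symm
  obtain ⟨⟨z, hz⟩, hz1'⟩ := Subgroup.ne_bot_iff_exists_ne_one.1 hZ1
  have hz1 : z ≠ 1 := fun h => hz1' (Subtype.ext h)
  have hcent : ∀ y ∈ F, y ≠ 1 → centralizer ({y} : Set G) ≤ F := by
    intro y hy hy1
    haveI := hCN y hy1
    refine Components.le_fittingSubgroup ⟨fun n hn g => ?_⟩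
    exact mem_centralizer_singleton_iff.2 (conj_commute hTI hz1 (hZc z hz y hy)
      (hZc _ (hZn.conj_mem z hz g) y hy) (mem_centralizer_singleton_iff.1 hn)).eq
  have hcop : (Nat.card F).Coprime F.index := by
    refine Nat.coprime_of_dvd fun p hp hpF hpi => ?_
    haveI := Fact.mk hp
    obtain ⟨P⟩ := (inferInstance : Nonempty (Sylow p G))
    obtain ⟨x, hx⟩ := exists_prime_orderOf_dvd_card' p hpF
    obtain ⟨Q, hQ⟩ := (IsPGroup.of_card (n := 1)
      (by rw [Nat.card_zpowers, Subgroup.orderOf_coe, hx, pow_one]) :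
      IsPGroup p (zpowers (x : G))).exists_le_sylow
    have hR : F.subgroupOf (Q : Subgroup G) ≠ ⊥ := by
      intro h
      have h1 : (⟨(x : G), hQ (mem_zpowers _)⟩ : (Q : Subgroup G)) ∈ F.subgroupOf (Q : Subgroup G) :=
        x.2
      rw [h, mem_bot] at h1
      have h2 : x = 1 := Subtype.ext (congrArg Subtype.val h1 :)
      rw [h2, orderOf_one] at hx
      exact hp.ne_one hx.symm
    obtain ⟨⟨w, hwF, hwc⟩, hw1⟩ := Subgroup.ne_bot_iff_exists_ne_one.1
      (PGroup.inf_center_ne_bot Q.2 _ hR)
    have hQF : (Q : Subgroup G) ≤ F := fun q hq =>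
      hcent (w : G) hwF (fun h => hw1 (Subtype.ext (Subtype.ext h)))
        (mem_centralizer_singleton_iff.2
          (congrArg Subtype.val (Subgroup.mem_center_iff.1 hwc ⟨q, hq⟩)))
    exact Q.not_dvd_index (hpi.trans (Subgroup.index_dvd_of_le hQF))
  obtain ⟨H, hH⟩ := Subgroup.exists_right_complement'_of_coprime hcop
  have hH1 : H ≠ ⊥ := fun h => hFt (by rw [h, Subgroup.isComplement'_bot_right] at hH; exact hH)
  have hfpf : ∀ e ∈ H, e ≠ 1 → F ⊓ centralizer ({e} : Set G) = ⊥ := by
    intro e he he1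
    refine (Subgroup.eq_bot_iff_forall _).2 fun y hy => by_contra fun hy1 => he1 ?_
    obtain ⟨hyF, hye⟩ := mem_inf.1 hy
    exact disjoint_def.1 hH.disjoint (hcent y hyF hy1 (mem_centralizer_singleton_iff.2
      (mem_centralizer_singleton_iff.1 hye).symm)) he
  refine ⟨H, (Frobenius.isFrobeniusComplement_iff hH hF1 hH1).2 hfpf, ?_⟩
  haveI : IsMulCommutative Z := Subgroup.map_isMulCommutative _ _
  haveI : Nontrivial Z := (Subgroup.nontrivial_iff_ne_bot Z).2 hZ1
  have hHZ : H ≤ normalizer (Z : Set G) := le_top.trans (normalizer_eq_top (H := Z)).ge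
  have hφ := Frobenius.Fpf.isFpf_conjHom H Z hHZ fun h hh hh1 => le_bot_iff.1
    (le_trans (inf_le_inf_right _ (Subgroup.map_subtype_le _)) (hfpf h hh hh1).le)
  haveI : Group.IsNilpotent H := OddOrder.CN.isNilpotent_of_isFpf
    (OddOrder.CN.of_injective hCN H.subtype H.subtype_injective) hφ
  exact shape_of_fpf hTI H hφ

end Cfsg.Agent.TICentralisers
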